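import Mathlib

/-!
# Artin–Schreier generators for Galois extensions of degree `p` in characteristic `p` (helper9)
-/

set_option autoImplicit false
universe u

open Module

namespace Groth.Agent.Lib.Helper9.ASWeak

section AS

variable {p : ℕ} {L M : Type u} [Field L] [Field M] [Algebra L M]

/-- additivity of the Artin–Schreier operator. -/
theorem wp_add (hp : p.Prime) [CharP M p] (x y : M) :
    (x + y) ^ p - (x + y) = (x ^ p - x) + (y ^ p - y) := by
  haveI : Fact p.Prime := ⟨hp⟩
  rw [add_pow_char]
  ring

theorem wp_sub (hp : p.Prime) [CharP M p] (x y : M) :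
    (x - y) ^ p - (x - y) = (x ^ p - x) - (y ^ p - y) := by
  haveI : Fact p.Prime := ⟨hp⟩
  rw [sub_pow_char]
  ring

/-- `X ^ (p ^ e) - X` is in the image of the Artin–Schreier operator. -/
theorem exists_wp_eq_pow_sub (hp : p.Prime) [CharP M p] (x : M) (e : ℕ) :
    ∃ g : M, x ^ (p ^ e) - x = g ^ p - g := by
  induction e with
  | zero => exact ⟨0, by simp [hp.ne_zero]⟩
  | succ e ih =>
    obtain ⟨g, hg⟩ := ih
    refine ⟨x ^ (p ^ e) + g, ?_⟩
    rw [wp_add hp, ← hg, pow_succ, pow_mul]
    ring

set_option maxHeartbeats 800000 in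
/-- A Galois extension of degree `p` in characteristic `p` is generated by an Artin–Schreier
element. -/
theorem exists_artinSchreier (hp : p.Prime) [CharP L p] [IsGalois L M]
    (hdeg : finrank L M = p) :
    ∃ (z : M) (ξ : L), z ^ p - z = algebraMap L M ξ ∧ z ∉ Set.range (algebraMap L M) ∧
      IntermediateField.adjoin L {z} = ⊤ := by
  classical
  haveI : Fact p.Prime := ⟨hp⟩
  haveI hfd : FiniteDimensional L M := Module.finite_of_finrank_pos (by rw [hdeg]; exact hp.pos)
  haveI : CharP M p := charP_of_injective_algebraMap (algebraMap L M).injective p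
  have hcard : Nat.card (M ≃ₐ[L] M) = p := by rw [IsGalois.card_aut_eq_finrank, hdeg]
  -- a nontrivial automorphism
  obtain ⟨σ, hσ⟩ : ∃ σ : M ≃ₐ[L] M, σ ≠ 1 := by
    by_contra hcon
    push Not at hcon
    haveI : Subsingleton (M ≃ₐ[L] M) := ⟨fun a b => by rw [hcon a, hcon b]⟩
    have : Nat.card (M ≃ₐ[L] M) = 1 := Nat.card_unique
    rw [hcard] at this
    exact hp.ne_one this
  have hgenσ : ∀ τ : M ≃ₐ[L] M, τ ∈ Subgroup.zpowers σ := fun τ =>
    mem_zpowers_of_prime_card hcard hσ
  have hfix : ∀ x : M, σ x = x → x ∈ Set.range (algebraMap L M) := by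
    intro x hx
    rw [IsGalois.mem_range_algebraMap_iff_fixed]
    intro τ
    obtain ⟨k, rfl⟩ := Subgroup.mem_zpowers_iff.mp (hgenσ τ)
    have hpow : ∀ n : ℕ, (σ ^ n) x = x := by
      intro n
      induction n with
      | zero => rfl
      | succ n ih => rw [pow_succ, AlgEquiv.mul_apply, hx, ih]
    have hinv : ∀ n : ℕ, ((σ ^ n)⁻¹) x = x := by
      intro n
      have := hpow n
      calc ((σ ^ n)⁻¹) x = ((σ ^ n)⁻¹) ((σ ^ n) x) := by rw [this]
        _ = x := by
          rw [← AlgEquiv.mul_apply, inv_mul_cancel]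
          rfl
    cases k with
    | ofNat n => simpa using hpow n
    | negSucc n =>
      rw [zpow_negSucc]
      exact hinv (n + 1)
  -- the linear map `σ - 1`
  let δ : M →ₗ[L] M := σ.toLinearMap - LinearMap.id
  have hδ : ∀ x, δ x = σ x - x := fun x => rfl
  have hker : LinearMap.ker δ = LinearMap.range (Algebra.linearMap L M) := by
    ext x
    rw [LinearMap.mem_ker, hδ, sub_eq_zero, LinearMap.mem_range]
    constructor
    · intro hx
      obtain ⟨l, hl⟩ := hfix x hx
      exact ⟨l, hl⟩
    · rintro ⟨l, rfl⟩
      exact σ.commutes l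
  have hkerrank : finrank L (LinearMap.ker δ) = 1 := by
    rw [hker]
    have hinj : Function.Injective (Algebra.linearMap L M) := (algebraMap L M).injective
    rw [LinearMap.finrank_range_of_inj hinj]
    exact finrank_self L
  have hrange : finrank L (LinearMap.range δ) = p - 1 := by
    have := LinearMap.finrank_range_add_finrank_ker δ
    rw [hkerrank, hdeg] at this
    omega
  -- the kernel of the trace
  have htrsurj : Function.Surjective (Algebra.trace L M) := Algebra.trace_surjective L M
  have htrker : finrank L (LinearMap.ker (Algebra.trace L M)) = p - 1 := by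
    have := LinearMap.finrank_range_add_finrank_ker (Algebra.trace L M)
    rw [LinearMap.range_eq_top.mpr htrsurj, finrank_top, finrank_self, hdeg] at this
    omega
  have hle : LinearMap.range δ ≤ LinearMap.ker (Algebra.trace L M) := by
    rintro _ ⟨x, rfl⟩
    rw [LinearMap.mem_ker, hδ, map_sub, Algebra.trace_eq_of_algEquiv, sub_self]
  have heq : LinearMap.range δ = LinearMap.ker (Algebra.trace L M) :=
    Submodule.eq_of_le_of_finrank_eq hle (by rw [hrange, htrker])
  have hone : (1 : M) ∈ LinearMap.ker (Algebra.trace L M) := by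
    rw [LinearMap.mem_ker]
    have := Algebra.trace_algebraMap (S := M) (1 : L)
    rw [map_one, hdeg] at this
    rw [this]
    simp
  rw [← heq] at hone
  obtain ⟨z, hz⟩ := hone
  have hσz : σ z = z + 1 := by
    rw [hδ] at hz
    rw [← hz]
    ring
  have hznot : z ∉ Set.range (algebraMap L M) := by
    rintro ⟨l, rfl⟩
    rw [σ.commutes] at hσz
    have : (1 : M) = 0 := by
      have h := hσz
      nth_rewrite 1 [← add_zero (algebraMap L M l)] at h
      exact (add_left_cancel h).symm
    exact one_ne_zero this
  have hwp : σ (z ^ p - z) = z ^ p - z := by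
    rw [map_sub, map_pow, hσz, add_pow_char, one_pow]
    ring
  obtain ⟨ξ, hξ⟩ := hfix _ hwp
  refine ⟨z, ξ, hξ.symm, hznot, ?_⟩
  haveI := IntermediateField.isSimpleOrder_of_finrank_prime L M (hdeg ▸ hp)
  rcases IsSimpleOrder.eq_bot_or_eq_top (IntermediateField.adjoin L {z}) with h | h
  · exfalso
    apply hznot
    have hz' : z ∈ IntermediateField.adjoin L {z} :=
      IntermediateField.subset_adjoin L _ (Set.mem_singleton z)
    rw [h] at hz'
    exact IntermediateField.mem_bot.mp hz'
  · exact h

end AS

end Groth.Agent.Lib.Helper9.ASWeak
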