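import Mathlib
import Groth.Agent.S7158
import Groth.Agent.S1984
import Groth.Agent.Lib.Helper9.ASWeak.ArtinSchreier
import Groth.Agent.Lib.Helper9.KADominates

/-!
# Weak solutions through an unramified Artin–Schreier layer (helper9)

If `N = L(z̃) K₁` with `z̃ ^ p - z̃ ∈ B`, `A → B` weakly unramified and `K₁ / K` totally ramified,
then `W ∩ K₁ → W` is weakly unramified for every valuation ring `W` of `N` dominating `B`.
-/

set_option autoImplicit false
universe u

open IsLocalRing

namespace Groth.Agent.Lib.Helper9.ASWeak

section Compose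

open Groth.Agent.Lib.Helper9 Groth.Agent.Lib.Helper9.DVRExt Groth.Agent.Lib.Helper9.TameBase
  Groth.Agent.Lib.Helper9.TotRam Groth.Agent.Lib.Helper9.AbhyankarCore

variable {p : ℕ} (A B K L K₁ : Type u) {N : Type u} [CommRing A] [IsDomain A]
  [IsDiscreteValuationRing A] [CommRing B] [IsDomain B] [IsDiscreteValuationRing B]
  [Algebra A B] [IsLocalHom (algebraMap A B)] [Field K] [Field L] [Algebra A K]
  [IsFractionRing A K] [Algebra B L] [IsFractionRing B L] [Algebra K L] [Algebra A L]
  [IsScalarTower A K L] [IsScalarTower A B L] [Field K₁] [Algebra K K₁] [FiniteDimensional K K₁]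
  [Algebra.IsSeparable K K₁] [Field N] [Algebra K N] [Algebra L N] [Algebra K₁ N]
  [IsScalarTower K L N] [IsScalarTower K K₁ N]

set_option maxHeartbeats 4000000 in
set_option synthInstance.maxHeartbeats 200000 in
theorem wu_of_unramified_layer (hp : p.Prime) [CharP L p]
    (hinj : Function.Injective (algebraMap A B)) (hw : EtRam.IsWeaklyUnramified A B)
    (ht : EtRam.IsTotallyRamified A ((algebraMap K K₁).comp (algebraMap A K)))
    (W : ValuationSubring N)
    (hW : EtRam.Dominates B ((algebraMap L N).comp (algebraMap B L)) W)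
    (z : N) (b : B) (hz : z ^ p - z = algebraMap L N (algebraMap B L b))
    (hgen : Algebra.adjoin L (insert z (Set.range (algebraMap K₁ N))) = ⊤) :
    letI : Algebra (W.comap (algebraMap K₁ N)) W :=
      (EtRam.inclOfComap W (algebraMap K₁ N)).toAlgebra
    EtRam.IsWeaklyUnramified (W.comap (algebraMap K₁ N)) W := by
  classical
  letI algBN : Algebra B N := ((algebraMap L N).comp (algebraMap B L)).toAlgebra
  haveI towBLN : IsScalarTower B L N := IsScalarTower.of_algebraMap_eq (fun _ => rfl)
  have hW' : EtRam.Dominates B (algebraMap B N) W := hW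
  obtain ⟨π, hπ⟩ := IsDiscreteValuationRing.exists_irreducible B
  -- the intermediate field `L(z)`
  let Lb : IntermediateField L N := IntermediateField.adjoin L {z}
  have hzLb : z ∈ Lb := IntermediateField.subset_adjoin L _ (Set.mem_singleton z)
  let zb : Lb := ⟨z, hzLb⟩
  have hzb : zb ^ p - zb = algebraMap L Lb (algebraMap B L b) := by
    apply Subtype.ext
    exact hz
  have hgenb : IntermediateField.adjoin L {zb} = ⊤ := by
    apply IntermediateField.lift_injective Lb
    rw [IntermediateField.lift_adjoin_simple, IntermediateField.lift_top]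
  obtain ⟨hgal, -, hA, -, -⟩ :=
    Groth.Agent.S7158.result p hp B L Lb π hπ.maximalIdeal_eq (algebraMap B L b) zb hzb hgenb
  haveI := hgal
  have hcases := hA ⟨b, rfl⟩
  haveI hfdb : FiniteDimensional L Lb := by
    rcases hcases with h1 | h2
    · exact Module.finite_of_finrank_pos (by rw [h1]; exact Nat.one_pos)
    · exact Module.finite_of_finrank_pos (by rw [h2.2]; exact hp.pos)
  haveI : Algebra.IsSeparable L Lb := inferInstance
  -- the valuation subring `W ∩ L(z)`
  let Bb : ValuationSubring Lb := W.comap (algebraMap Lb N)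
  have hdom : EtRam.Dominates B (algebraMap B Lb) Bb := by
    refine ⟨fun x => ?_, fun x hx => ?_⟩
    · show algebraMap Lb N (algebraMap B Lb x) ∈ W
      exact hW'.1 x
    · rw [valuation_comap_lt_one_iff]
      exact hW'.2 x hx
  haveI hdvrb : IsDiscreteValuationRing Bb := isDiscreteValuationRing_of_dominates B L Bb hdom
  letI algBBb : Algebra B Bb := (RingHom.codRestrict (algebraMap B Lb) Bb hdom.1).toAlgebra
  haveI hlocBBb : IsLocalHom (algebraMap B Bb) := isLocalHom_of_dominates _ Bb hdom
  have hwuB : EtRam.IsWeaklyUnramified B Bb := by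
    rcases hcases with h1 | h2
    · exact (Groth.Agent.S7158.weaklyUnramified_iff B L Bb hdom).mpr
        (Groth.Agent.S7158.eV_eq_one_of_finrank_one B L h1 Bb hdom)
    · exact (h2.1 Bb hdom).1
  -- `A → Bb`
  letI algABb : Algebra A Bb := ((algebraMap B Bb).comp (algebraMap A B)).toAlgebra
  haveI towABBb : IsScalarTower A B Bb := IsScalarTower.of_algebraMap_eq (fun _ => rfl)
  have hinjBBb : Function.Injective (algebraMap B Bb) := by
    intro x x' hxx'
    have h1 : algebraMap B N x = algebraMap B N x' :=
      congrArg (fun v : Bb => algebraMap Lb N (v : Lb)) hxx'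
    have hBN : Function.Injective (algebraMap B N) := by
      rw [IsScalarTower.algebraMap_eq B L N]
      exact (algebraMap L N).injective.comp (IsFractionRing.injective B L)
    exact hBN h1
  have hinjABb : Function.Injective (algebraMap A Bb) := hinjBBb.comp hinj
  haveI hlocABb : IsLocalHom (algebraMap A Bb) := by
    constructor
    intro a ha
    have h1 : IsUnit (algebraMap A B a) := hlocBBb.map_nonunit _ ha
    exact (isUnit_map_iff (algebraMap A B) a).mp h1
  have hwuA : EtRam.IsWeaklyUnramified A Bb := by
    show Ideal.map (algebraMap A Bb) (maximalIdeal A) = maximalIdeal Bb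
    have h1 : Ideal.map (algebraMap A B) (maximalIdeal A) = maximalIdeal B := hw
    have h2 : Ideal.map (algebraMap B Bb) (maximalIdeal B) = maximalIdeal Bb := hwuB
    rw [← h2, ← h1, Ideal.map_map]
    rfl
  letI algALb : Algebra A Lb := ((algebraMap K Lb).comp (algebraMap A K)).toAlgebra
  haveI towAKLb : IsScalarTower A K Lb := IsScalarTower.of_algebraMap_eq (fun _ => rfl)
  haveI towABbLb : IsScalarTower A Bb Lb := IsScalarTower.of_algebraMap_eq (fun a => by
    apply Subtype.ext
    show algebraMap K N (algebraMap A K a) = algebraMap L N (algebraMap B L (algebraMap A B a))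
    rw [IsScalarTower.algebraMap_apply K L N, ← IsScalarTower.algebraMap_apply A K L,
      ← IsScalarTower.algebraMap_apply A B L])
  obtain ⟨-, hws⟩ := Groth.Agent.S1984.result A Bb K Lb hinjABb hwuA K₁ ht
  -- apply the weak solution to `N`
  haveI towKLbN : IsScalarTower K Lb N := IsScalarTower.of_algebraMap_eq (fun _ => rfl)
  have hgenN : Algebra.adjoin Lb (Set.range (algebraMap K₁ N)) = ⊤ := by
    rw [eq_top_iff]
    intro x _
    have hx : x ∈ Algebra.adjoin L (insert z (Set.range (algebraMap K₁ N))) := by
      rw [hgen]; trivial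
    induction hx using Algebra.adjoin_induction with
    | mem y hy =>
      rcases hy with rfl | hy
      · exact Subalgebra.algebraMap_mem _ zb
      · exact Algebra.subset_adjoin hy
    | algebraMap l =>
      have : algebraMap L N l = algebraMap Lb N (algebraMap L Lb l) := rfl
      rw [this]
      exact Subalgebra.algebraMap_mem _ _
    | add y y' _ _ hy hy' => exact add_mem (hy trivial) (hy' trivial)
    | mul y y' _ _ hy hy' => exact mul_mem (hy trivial) (hy' trivial)
  have hWb : EtRam.Dominates Bb ((algebraMap Lb N).comp (algebraMap Bb Lb)) W := by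
    refine ⟨fun x => x.2, fun x hx => ?_⟩
    have h1 : Bb.valuation (x : Lb) < 1 := (Bb.valuation_lt_one_iff x).mp hx
    rw [valuation_comap_lt_one_iff] at h1
    exact h1
  exact hws N hgenN W hWb

end Compose

end Groth.Agent.Lib.Helper9.ASWeak
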