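import Mathlib
import Groth.Agent.Lib.Helper9.PInsep.Basic
import Groth.Agent.Lib.Helper9.ASWeak.ArtinSchreier
import Groth.Agent.Lib.Helper9.AbhyankarCore

/-!
# Local computations for the Artin–Schreier case of Epp's theorem (helper9)
-/

set_option autoImplicit false
universe u

open IsLocalRing Polynomial
open IsDiscreteValuationRing hiding maximalIdeal

namespace Groth.Agent.Lib.Helper9.ASWeak

section Core4

variable {p : ℕ} (C M : Type u) {N : Type u} [CommRing C] [IsDomain C]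
  [IsDiscreteValuationRing C] [Field M] [Algebra C M] [IsFractionRing C M] [Field N]
  [Algebra M N] [Algebra C N] [IsScalarTower C M N] [FiniteDimensional M N]

include M in
set_option maxHeartbeats 1600000 in
/-- If a valuation ring `W` of an extension `N / M` of degree `≤ q p` dominating the DVR `C`
contains an element whose `p`-th power reduces to a non-`p`-th power of the residue field of `C`,
and `θ ^ q` has the valuation of a uniformizer of `C`, then `θ` is a uniformizer of `W`. -/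
theorem core4 (hp : p.Prime) (W : ValuationSubring N)
    (hW : EtRam.Dominates C (algebraMap C N) W) (q : ℕ) (hq : 0 < q)
    (hdeg : Module.finrank M N ≤ q * p)
    {ϖ : C} (hϖ : Irreducible ϖ) (θ : N)
    (hvθ : W.valuation (algebraMap C N ϖ) = W.valuation θ ^ q)
    (b : C) (hb : ∀ r : C, residue C b ≠ residue C r ^ p)
    (y : N) (hy : y ∈ W) (hyb : W.valuation (y ^ p - algebraMap C N b) < 1) :
    ∀ x : N, W.valuation x < 1 → ∃ w ∈ W, x = θ * w := by
  classical
  letI algCW : Algebra C W := (RingHom.codRestrict (algebraMap C N) W hW.1).toAlgebra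
  haveI : IsScalarTower C W N := IsScalarTower.of_algebraMap_eq (fun _ => rfl)
  haveI : IsDiscreteValuationRing W :=
    Groth.Agent.Lib.Helper9.KADominates.isDiscreteValuationRing_of_dominates_finite C M W hW
  have hCN : Function.Injective (algebraMap C N) := by
    rw [IsScalarTower.algebraMap_eq C M N]
    exact (algebraMap M N).injective.comp (IsFractionRing.injective C M)
  have hinj : Function.Injective (algebraMap C W) := by
    intro a a' haa'
    apply hCN
    exact congrArg (fun w : W => (w : N)) haa'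
  haveI hloc : IsLocalHom (algebraMap C W) := by
    constructor
    intro c hc
    by_contra hnu
    have hcm : c ∈ maximalIdeal C := (mem_maximalIdeal c).mpr hnu
    have h1 := hW.2 c hcm
    have h2 := (W.valuation_eq_one_iff _).mp hc
    have h3 : ((algebraMap C W c : W) : N) = algebraMap C N c := rfl
    rw [h3] at h2
    exact h1.ne h2
  obtain ⟨hfin, hle⟩ := Groth.Agent.S7132.result C W M N hinj
  haveI := hfin
  have hϖN : algebraMap C N ϖ ≠ 0 := fun h => hϖ.ne_zero (hCN (by rw [h, map_zero]))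
  have hϖW : algebraMap C W ϖ ≠ 0 := fun h => hϖ.ne_zero (hinj (by rw [h, map_zero]))
  obtain ⟨e, he⟩ : ∃ e : ℕ, addVal W (algebraMap C W ϖ) = e := by
    have : addVal W (algebraMap C W ϖ) ≠ ⊤ := by
      rw [Ne, addVal_eq_top_iff]; exact hϖW
    obtain ⟨e, he⟩ := ENat.ne_top_iff_exists.mp this
    exact ⟨e, he.symm⟩
  rw [Groth.Agent.Lib.Helper9.PInsep.ramificationIdx'_eq hinj hϖ e he] at hle
  -- the residue degree
  let yW : W := ⟨y, hy⟩
  have hyres : residue W yW ^ p = algebraMap (ResidueField C) (ResidueField W) (residue C b) := by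
    rw [IsLocalRing.ResidueField.algebraMap_residue, ← map_pow, ← sub_eq_zero, ← map_sub,
      residue_eq_zero_iff, W.valuation_lt_one_iff]
    exact hyb
  have hirr : Irreducible (X ^ p - Polynomial.C (residue C b) : (ResidueField C)[X]) := by
    apply X_pow_sub_C_irreducible_of_prime hp
    intro c hc
    obtain ⟨r, rfl⟩ := residue_surjective c
    exact hb r hc.symm
  have hmonic : (X ^ p - Polynomial.C (residue C b) : (ResidueField C)[X]).Monic :=
    monic_X_pow_sub_C _ hp.ne_zero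
  have heval : aeval (residue W yW) (X ^ p - Polynomial.C (residue C b) : (ResidueField C)[X]) = 0 := by
    rw [map_sub, map_pow, aeval_X, aeval_C, hyres, sub_self]
  have hmin := minpoly.eq_of_irreducible_of_monic hirr heval hmonic
  have hfp : p ≤ Module.finrank (ResidueField C) (ResidueField W) := by
    have h1 := minpoly.natDegree_le (A := ResidueField C) (residue W yW)
    rw [← hmin, natDegree_sub_C, natDegree_X_pow] at h1
    exact h1
  -- `θ`
  have hϖlt : W.valuation (algebraMap C N ϖ) < 1 :=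
    hW.2 ϖ ((mem_maximalIdeal ϖ).mpr hϖ.not_isUnit)
  have hθlt : W.valuation θ < 1 := by
    rw [hvθ] at hϖlt
    exact (pow_lt_one_iff hq.ne').mp hϖlt
  have hθ0 : θ ≠ 0 := by
    intro h0
    rw [h0, map_zero, zero_pow hq.ne', map_eq_zero] at hvθ
    exact hϖN hvθ
  have hθW : θ ∈ W := (W.valuation_le_one_iff θ).mp hθlt.le
  obtain ⟨τ, hτ⟩ := IsDiscreteValuationRing.exists_irreducible W
  have hτlt : W.valuation (τ : N) < 1 :=
    (W.valuation_lt_one_iff τ).mp ((mem_maximalIdeal τ).mpr hτ.not_isUnit)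
  have hτ0 : (0 : W.ValueGroup) < W.valuation (τ : N) := by
    rw [Valuation.pos_iff]
    intro h
    exact hτ.ne_zero (Subtype.ext h)
  obtain ⟨e', u, hu⟩ := eq_unit_mul_pow_irreducible hϖW hτ
  have hee' : e' = e := by
    have h1 := congrArg (addVal W) hu
    rw [he, addVal_mul, addVal_pow, addVal_uniformizer hτ, addVal_eq_zero_of_unit u,
      zero_add] at h1
    have : ((e' : ℕ) : ℕ∞) = e := by simpa using h1.symm
    exact_mod_cast this
  subst hee'
  have hθW0 : (⟨θ, hθW⟩ : W) ≠ 0 := fun h => hθ0 (congrArg Subtype.val h)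
  obtain ⟨k, u', hu'⟩ := eq_unit_mul_pow_irreducible hθW0 hτ
  have hvϖ : W.valuation (algebraMap C N ϖ) = W.valuation (τ : N) ^ e' := by
    have h1 : algebraMap C N ϖ = ((u : W) : N) * (τ : N) ^ e' :=
      congrArg (fun w : W => (w : N)) hu
    rw [h1, map_mul, map_pow, W.valuation_unit u, one_mul]
  have hvθ' : W.valuation θ = W.valuation (τ : N) ^ k := by
    have h1 : θ = ((u' : W) : N) * (τ : N) ^ k :=
      congrArg (fun w : W => (w : N)) hu'
    rw [h1, map_mul, map_pow, W.valuation_unit u', one_mul]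
  have hek : e' = k * q := by
    rw [hvϖ, hvθ', ← pow_mul] at hvθ
    exact (pow_right_inj₀ hτ0 hτlt.ne).mp hvθ
  have hk1 : 1 ≤ k := by
    by_contra hcon
    push Not at hcon
    have hk0 : k = 0 := by omega
    rw [hvθ', hk0, pow_zero] at hθlt
    exact lt_irrefl _ hθlt
  have hkeq : k = 1 := by
    have h1 : e' * p ≤ q * p :=
      le_trans (le_trans (Nat.mul_le_mul_left e' hfp) hle) hdeg
    rw [hek] at h1
    have hp0 := hp.pos
    have h2 : k * q ≤ q := Nat.le_of_mul_le_mul_right h1 hp0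
    have h3 : k * q ≤ 1 * q := by rwa [one_mul]
    have := Nat.le_of_mul_le_mul_right h3 hq
    omega
  rw [hkeq, pow_one] at hu'
  intro x hx
  have hxW : x ∈ W := W.mem_of_valuation_le_one x hx.le
  have hxm : (⟨x, hxW⟩ : W) ∈ maximalIdeal W := (W.valuation_lt_one_iff _).mpr hx
  rw [hτ.maximalIdeal_eq, Ideal.mem_span_singleton'] at hxm
  obtain ⟨w', hw'⟩ := hxm
  refine ⟨(w' : N) * (((u'⁻¹ : Wˣ) : W) : N), W.mul_mem _ _ w'.2 ((u'⁻¹ : Wˣ) : W).2, ?_⟩
  have h1 : (x : N) = (w' : N) * (τ : N) := congrArg (fun w : W => (w : N)) hw'.symm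
  have h2 : θ = ((u' : W) : N) * (τ : N) := congrArg (fun w : W => (w : N)) hu'
  have h3 : (((u'⁻¹ : Wˣ) : W) : N) * ((u' : W) : N) = 1 := by
    have h4 : (((u'⁻¹ : Wˣ) : W) * (u' : W) : W) = 1 := Units.inv_mul u'
    exact congrArg (fun w : W => (w : N)) h4
  rw [h1, h2]
  calc (w' : N) * (τ : N) = (((u'⁻¹ : Wˣ) : W) : N) * ((u' : W) : N) * ((w' : N) * (τ : N)) := by
        rw [h3, one_mul]
    _ = _ := by ring

end Core4

section Term

variable {p : ℕ} {N : Type u} [Field N]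

theorem wp_sum (hp : p.Prime) [CharP N p] {ι : Type*} (s : Finset ι) (f : ι → N) :
    (∑ i ∈ s, f i) ^ p - ∑ i ∈ s, f i = ∑ i ∈ s, (f i ^ p - f i) := by
  haveI : Fact p.Prime := ⟨hp⟩
  rw [sum_pow_char, Finset.sum_sub_distrib]

/-- a single term `τ ^ (p ^ e) / ϖ ^ i` after the substitution `ϖ = θ ^ q ε`. -/
theorem term (hp : p.Prime) [CharP N p] (W : ValuationSubring N) (θ β' ϖ τ : N) (N₀ m e i : ℕ)
    (he : e ≤ N₀) (hi : i ≤ m) (hm : 0 < m) (hθW : θ ∈ W) (hθlt : W.valuation θ < 1)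
    (hθ0 : θ ≠ 0) (hβ' : β' ∈ W) (hτ : τ ∈ W)
    (hrel : ϖ = θ ^ (p ^ N₀) * (1 - θ ^ (m * p ^ N₀) * β')) :
    ∃ Y : N, ∃ w ∈ W, τ ^ (p ^ e) / ϖ ^ i = (Y ^ p - Y) + τ / θ ^ (i * p ^ (N₀ - e)) + w := by
  obtain ⟨ε, hε⟩ : ∃ ε : N, ε = 1 - θ ^ (m * p ^ N₀) * β' := ⟨_, rfl⟩
  rw [← hε] at hrel
  have hqpos : 0 < p ^ N₀ := pow_pos hp.pos _
  have hvle : ∀ {x : N}, x ∈ W → W.valuation x ≤ 1 := fun hx => (W.valuation_le_one_iff _).mpr hx
  have hsmall : W.valuation (θ ^ (m * p ^ N₀) * β') < 1 := by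
    rw [map_mul, map_pow]
    calc W.valuation θ ^ (m * p ^ N₀) * W.valuation β' ≤ W.valuation θ ^ (m * p ^ N₀) * 1 := by
          gcongr
          exact hvle hβ'
      _ < 1 := by
          rw [mul_one]
          exact pow_lt_one₀ zero_le' hθlt (Nat.mul_ne_zero hm.ne' hqpos.ne')
  have hvε : W.valuation ε = 1 := by
    rw [hε, sub_eq_add_neg]
    apply Valuation.map_one_add_of_lt
    rw [Valuation.map_neg]
    exact hsmall
  have hε0 : ε ≠ 0 := by
    intro h
    rw [h, map_zero] at hvε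
    exact zero_ne_one hvε
  have hεW : ε ∈ W := (W.valuation_le_one_iff ε).mp hvε.le
  have hεinvW : ε⁻¹ ∈ W := by
    rw [← W.valuation_le_one_iff, map_inv₀, hvε, inv_one]
  obtain ⟨S, hS⟩ : ∃ S : N, S = ∑ k ∈ Finset.range i, ε ^ k := ⟨_, rfl⟩
  have hSW : S ∈ W := by
    rw [hS]
    exact sum_mem (fun k _ => pow_mem hεW k)
  have hgeom : (1 - ε) * S = 1 - ε ^ i := by rw [hS]; exact mul_neg_geom_sum ε i
  obtain ⟨j, hj⟩ := Nat.exists_eq_add_of_le hi
  obtain ⟨X, hX⟩ : ∃ X : N, X = τ / θ ^ (i * p ^ (N₀ - e)) := ⟨_, rfl⟩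
  have hXp : X ^ (p ^ e) = τ ^ (p ^ e) / θ ^ (i * p ^ N₀) := by
    rw [hX, div_pow, ← pow_mul, mul_assoc, ← pow_add, Nat.sub_add_cancel he]
  obtain ⟨G, hG⟩ := exists_wp_eq_pow_sub hp X e
  refine ⟨G, τ ^ (p ^ e) * θ ^ (j * p ^ N₀) * β' * S * (ε⁻¹) ^ i, ?_, ?_⟩
  · exact W.mul_mem _ _ (W.mul_mem _ _ (W.mul_mem _ _ (W.mul_mem _ _ (pow_mem hτ _)
      (pow_mem hθW _)) hβ') hSW) (pow_mem hεinvW _)
  · rw [← hG, ← hX]
    have h1 : τ ^ (p ^ e) / ϖ ^ i = X ^ (p ^ e) / ε ^ i := by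
      rw [hXp, hrel, mul_pow, ← pow_mul, mul_comm (p ^ N₀) i, div_div]
    have h2 : X ^ (p ^ e) / ε ^ i - X ^ (p ^ e) =
        τ ^ (p ^ e) * θ ^ (j * p ^ N₀) * β' * S * (ε⁻¹) ^ i := by
      rw [hXp, inv_pow]
      have hθi : θ ^ (i * p ^ N₀) ≠ 0 := pow_ne_zero _ hθ0
      have hεi : ε ^ i ≠ 0 := pow_ne_zero _ hε0
      field_simp
      have hm' : θ ^ (m * p ^ N₀) = θ ^ (i * p ^ N₀) * θ ^ (j * p ^ N₀) := by
        rw [hj, add_mul, pow_add]
      have hε' : 1 - ε = θ ^ (m * p ^ N₀) * β' := by rw [hε]; ring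
      rw [hm'] at hε'
      linear_combination (τ ^ (p ^ e)) * hgeom * (-1) + (τ ^ (p ^ e) * S) * hε'
    rw [h1]
    linear_combination h2

end Term

section Leading

variable {p : ℕ} {N : Type u} [Field N]

theorem val_div_pow_lt (W : ValuationSubring N) {θ x : N} (hθlt : W.valuation θ < 1)
    (hθ0 : θ ≠ 0) (hx : x ∈ W) {a b : ℕ} (hab : a < b) :
    W.valuation (x / θ ^ a * θ ^ b) < 1 := by
  obtain ⟨c, hc⟩ := Nat.exists_eq_add_of_lt hab
  have h1 : x / θ ^ a * θ ^ b = x * θ ^ (c + 1) := by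
    rw [hc, add_assoc, pow_add]
    field_simp
  rw [h1, map_mul, map_pow]
  calc W.valuation x * W.valuation θ ^ (c + 1) ≤ 1 * W.valuation θ ^ (c + 1) := by
        gcongr
        exact (W.valuation_le_one_iff _).mpr hx
    _ < 1 := by
        rw [one_mul]
        exact pow_lt_one₀ zero_le' hθlt (Nat.succ_ne_zero c)

set_option maxHeartbeats 1600000 in
/-- the leading term after the substitution. -/
theorem leading (hp : p.Prime) [CharP N p] (W : ValuationSubring N) (θ β' ϖ : N) (N₀ m n : ℕ)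
    (hnm : n ≤ m) (hm : 0 < m) (hθW : θ ∈ W) (hθlt : W.valuation θ < 1) (hθ0 : θ ≠ 0)
    (hβ' : β' ∈ W) (hrel : ϖ = θ ^ (p ^ N₀) * (1 - θ ^ (m * p ^ N₀) * β'))
    (τ α : ℕ → N) (d : ℕ → ℕ) (hτ : ∀ i, τ i ∈ W) (hα : ∀ i, α i ∈ W) (hd : ∀ i, d i ≤ N₀)
    (w₀ : N) (hw₀ : w₀ ∈ W) (ξ' : N)
    (hξ' : ξ' = ∑ i ∈ Finset.range n, τ (i + 1) ^ (p ^ d (i + 1)) / ϖ ^ (i + 1) +
      ∑ i ∈ Finset.range n, α (i + 1) ^ (p ^ N₀) / ϖ ^ (i + 1) + w₀)
    (i₀ : ℕ) (hi₀ : i₀ < n) (l : ℕ) (hl : l = (i₀ + 1) * p ^ (N₀ - d (i₀ + 1))) (hln : n < l)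
    (hother : ∀ i, i < n → i ≠ i₀ → τ (i + 1) = 0 ∨ (i + 1) * p ^ (N₀ - d (i + 1)) < l) :
    ∃ Y : N, ∃ a ∈ W, (ξ' - (Y ^ p - Y)) * θ ^ l = a ∧ W.valuation (a - τ (i₀ + 1)) < 1 := by
  classical
  have H1 : ∀ i, i ∈ Finset.range n → ∃ Y w : N, w ∈ W ∧
      τ (i + 1) ^ (p ^ d (i + 1)) / ϖ ^ (i + 1) =
        (Y ^ p - Y) + τ (i + 1) / θ ^ ((i + 1) * p ^ (N₀ - d (i + 1))) + w := by
    intro i hi
    have hi' := Finset.mem_range.mp hi
    obtain ⟨Y, w, hw, h⟩ := term hp W θ β' ϖ (τ (i + 1)) N₀ m (d (i + 1)) (i + 1) (hd _)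
      (by omega) hm hθW hθlt hθ0 hβ' (hτ _) hrel
    exact ⟨Y, w, hw, h⟩
  have H2 : ∀ i, i ∈ Finset.range n → ∃ Y w : N, w ∈ W ∧
      α (i + 1) ^ (p ^ N₀) / ϖ ^ (i + 1) = (Y ^ p - Y) + α (i + 1) / θ ^ (i + 1) + w := by
    intro i hi
    have hi' := Finset.mem_range.mp hi
    obtain ⟨Y, w, hw, h⟩ := term hp W θ β' ϖ (α (i + 1)) N₀ m N₀ (i + 1) le_rfl
      (by omega) hm hθW hθlt hθ0 hβ' (hα _) hrel
    rw [Nat.sub_self, pow_zero, mul_one] at h
    exact ⟨Y, w, hw, h⟩
  choose! Y₁ w₁ h₁ using H1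
  choose! Y₂ w₂ h₂ using H2
  obtain ⟨Y, hY⟩ : ∃ Y : N, Y = ∑ i ∈ Finset.range n, Y₁ i + ∑ i ∈ Finset.range n, Y₂ i :=
    ⟨_, rfl⟩
  obtain ⟨wt, hwt⟩ : ∃ wt : N, wt = ∑ i ∈ Finset.range n, w₁ i + ∑ i ∈ Finset.range n, w₂ i + w₀ :=
    ⟨_, rfl⟩
  have hwtW : wt ∈ W := by
    rw [hwt]
    exact add_mem (add_mem (sum_mem (fun i hi => (h₁ i hi).1)) (sum_mem (fun i hi => (h₂ i hi).1)))
      hw₀
  have hYp : Y ^ p - Y = ∑ i ∈ Finset.range n, (Y₁ i ^ p - Y₁ i) +
      ∑ i ∈ Finset.range n, (Y₂ i ^ p - Y₂ i) := by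
    rw [hY, wp_add hp, wp_sum hp, wp_sum hp]
  have hexp : ξ' - (Y ^ p - Y) =
      ∑ i ∈ Finset.range n, τ (i + 1) / θ ^ ((i + 1) * p ^ (N₀ - d (i + 1))) +
        ∑ i ∈ Finset.range n, α (i + 1) / θ ^ (i + 1) + wt := by
    rw [hξ', hYp, hwt, Finset.sum_congr rfl (fun i hi => (h₁ i hi).2),
      Finset.sum_congr rfl (fun i hi => (h₂ i hi).2)]
    simp only [Finset.sum_add_distrib]
    ring
  have hest : W.valuation ((ξ' - (Y ^ p - Y)) * θ ^ l - τ (i₀ + 1)) < 1 := by
    -- the valuation estimate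
    have hi₀mem : i₀ ∈ Finset.range n := Finset.mem_range.mpr hi₀
    have hsplit : (ξ' - (Y ^ p - Y)) * θ ^ l - τ (i₀ + 1) =
        ∑ i ∈ (Finset.range n).erase i₀,
          τ (i + 1) / θ ^ ((i + 1) * p ^ (N₀ - d (i + 1))) * θ ^ l +
        ∑ i ∈ Finset.range n, α (i + 1) / θ ^ (i + 1) * θ ^ l + wt * θ ^ l := by
      rw [hexp, add_mul, add_mul, Finset.sum_mul, Finset.sum_mul,
        ← Finset.add_sum_erase _ _ hi₀mem, ← hl]
      have : τ (i₀ + 1) / θ ^ l * θ ^ l = τ (i₀ + 1) := by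
        field_simp
      rw [this]
      ring
    rw [hsplit]
    apply Valuation.map_add_lt
    · apply Valuation.map_add_lt
      · apply Valuation.map_sum_lt _ one_ne_zero
        intro i hi
        rw [Finset.mem_erase, Finset.mem_range] at hi
        rcases hother i hi.2 hi.1 with h0 | hlt
        · rw [h0, zero_div, zero_mul, map_zero]
          exact zero_lt_one
        · exact val_div_pow_lt W hθlt hθ0 (hτ _) hlt
      · apply Valuation.map_sum_lt _ one_ne_zero
        intro i hi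
        rw [Finset.mem_range] at hi
        exact val_div_pow_lt W hθlt hθ0 (hα _) (by omega)
    · rw [map_mul, map_pow]
      calc W.valuation wt * W.valuation θ ^ l ≤ 1 * W.valuation θ ^ l := by
            gcongr
            exact (W.valuation_le_one_iff _).mpr hwtW
        _ < 1 := by
            rw [one_mul]
            exact pow_lt_one₀ zero_le' hθlt (by omega)
  refine ⟨Y, (ξ' - (Y ^ p - Y)) * θ ^ l, ?_, rfl, hest⟩
  have h3 : (ξ' - (Y ^ p - Y)) * θ ^ l =
      ((ξ' - (Y ^ p - Y)) * θ ^ l - τ (i₀ + 1)) + τ (i₀ + 1) := by ring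
  rw [h3]
  exact add_mem ((W.valuation_le_one_iff _).mp hest.le) (hτ _)

end Leading

section ASRoot

variable {p : ℕ} {N : Type u} [Field N]

/-- from an Artin–Schreier equation with pole of order `p k` to a `p`-th root modulo the
maximal ideal. -/
theorem as_root (hp : p.Prime) (W : ValuationSubring N) (θ z a τ : N) (k : ℕ) (hk : 0 < k)
    (hθlt : W.valuation θ < 1) (ha : a ∈ W) (hz : (z ^ p - z) * θ ^ (p * k) = a)
    (hτ : W.valuation (a - τ) < 1) :
    z * θ ^ k ∈ W ∧ W.valuation ((z * θ ^ k) ^ p - τ) < 1 := by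
  obtain ⟨c, hc⟩ : ∃ c : ℕ, p * k = k + (c + 1) := by
    have := hp.two_le
    refine ⟨p * k - k - 1, ?_⟩
    have h1 : 2 * k ≤ p * k := Nat.mul_le_mul_right k this
    omega
  have hY : (z * θ ^ k) ^ p = a + z * θ ^ k * θ ^ (c + 1) := by
    rw [← hz, mul_pow, ← pow_mul, mul_comm k p, hc, pow_add]
    ring
  have hθc : W.valuation (θ ^ (c + 1)) < 1 := by
    rw [map_pow]
    exact pow_lt_one₀ zero_le' hθlt (Nat.succ_ne_zero c)
  have hmem : z * θ ^ k ∈ W := by
    rw [← W.valuation_le_one_iff]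
    by_contra hcon
    push Not at hcon
    have h1 : W.valuation ((z * θ ^ k) ^ p) = W.valuation (z * θ ^ k) ^ p := map_pow _ _ _
    have h2 : W.valuation (a + z * θ ^ k * θ ^ (c + 1)) ≤ W.valuation (z * θ ^ k) := by
      refine le_trans (Valuation.map_add _ _ _) (max_le ?_ ?_)
      · exact le_trans ((W.valuation_le_one_iff _).mpr ha) hcon.le
      · rw [map_mul]
        calc W.valuation (z * θ ^ k) * W.valuation (θ ^ (c + 1))
            ≤ W.valuation (z * θ ^ k) * 1 := mul_le_mul_right hθc.le _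
          _ = W.valuation (z * θ ^ k) := mul_one _
    rw [← hY, h1] at h2
    have h3 : W.valuation (z * θ ^ k) < W.valuation (z * θ ^ k) ^ p := by
      obtain ⟨p', rfl⟩ : ∃ p', p = p' + 2 := ⟨p - 2, by have := hp.two_le; omega⟩
      calc W.valuation (z * θ ^ k) = W.valuation (z * θ ^ k) * 1 := (mul_one _).symm
        _ < W.valuation (z * θ ^ k) * W.valuation (z * θ ^ k) ^ (p' + 1) := by
            have hpos : (0 : W.ValueGroup) < W.valuation (z * θ ^ k) := lt_trans zero_lt_one hcon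
            exact mul_lt_mul_of_pos_left (one_lt_pow₀ hcon (Nat.succ_ne_zero p')) hpos
        _ = W.valuation (z * θ ^ k) ^ (p' + 2) := by rw [← pow_succ']
    exact absurd h2 (not_le.mpr h3)
  refine ⟨hmem, ?_⟩
  have h4 : (z * θ ^ k) ^ p - τ = (a - τ) + z * θ ^ k * θ ^ (c + 1) := by rw [hY]; ring
  rw [h4]
  apply Valuation.map_add_lt _ hτ
  rw [map_mul]
  calc W.valuation (z * θ ^ k) * W.valuation (θ ^ (c + 1)) ≤ 1 * W.valuation (θ ^ (c + 1)) := by
        gcongr
        exact (W.valuation_le_one_iff _).mpr hmem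
    _ < 1 := by rw [one_mul]; exact hθc

end ASRoot

section Aux

theorem algebraMap_pi_ne_zero' {A B L : Type u} [CommRing A] [CommRing B] [IsDomain B]
    [Algebra A B] [Field L] [Algebra B L] [IsFractionRing B L] [Algebra A L]
    [IsScalarTower A B L] {π : A} (hπ' : Irreducible (algebraMap A B π)) :
    algebraMap A L π ≠ 0 := by
  rw [IsScalarTower.algebraMap_apply A B L]
  intro h
  exact hπ'.ne_zero (IsFractionRing.injective B L (by rw [h, map_zero]))

end Aux

section LocalJ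

variable {p : ℕ} (A B L : Type u) {N : Type u} [CommRing A] [IsDomain A]
  [IsDiscreteValuationRing A] [CommRing B] [IsDomain B] [IsDiscreteValuationRing B]
  [Algebra A B] [Field L] [Algebra B L] [IsFractionRing B L] [Algebra A L] [IsScalarTower A B L]
  [Field N] [Algebra L N] [Algebra B N] [IsScalarTower B L N] [Algebra A N] [IsScalarTower A L N]
  [FiniteDimensional L N]

set_option maxHeartbeats 1600000 in
/-- the local computation in the case where some digit has finite depth. -/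
theorem local_J (hp : p.Prime) [CharP L p] (W : ValuationSubring N)
    (hW : EtRam.Dominates B (algebraMap B N) W) {π : A}
    (hπ' : Irreducible (algebraMap A B π)) (N₀ m n : ℕ) (hnm : n ≤ m) (hm : 0 < m)
    (hdeg : Module.finrank L N ≤ p ^ N₀ * p) (θ β' : N) (hθW : θ ∈ W)
    (hθlt : W.valuation θ < 1) (hβ' : β' ∈ W)
    (hrel : algebraMap A N π = θ ^ (p ^ N₀) * (1 - θ ^ (m * p ^ N₀) * β'))
    (t : ℕ → B) (d : ℕ → ℕ) (c : ℕ → A) (b : B) (a₀ : A) (ξ y : L)
    (hexp : ξ - (y ^ p - y) =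
      ∑ i ∈ Finset.range n, algebraMap B L (t (i + 1)) ^ (p ^ d (i + 1)) /
        algebraMap A L π ^ (i + 1) +
      ∑ i ∈ Finset.range n, algebraMap A L (c (i + 1)) ^ (p ^ N₀) / algebraMap A L π ^ (i + 1) +
      algebraMap A L a₀ + algebraMap B L b)
    (hd : ∀ i, d i ≤ N₀) (i₀ : ℕ) (hi₀ : i₀ < n)
    (hti₀ : ∀ r : B, residue B (t (i₀ + 1)) ≠ residue B r ^ p)
    (l k : ℕ) (hl : l = (i₀ + 1) * p ^ (N₀ - d (i₀ + 1))) (hlk : l = p * k) (hk : 0 < k)
    (hln : n < l)
    (hother : ∀ i, i < n → i ≠ i₀ → t (i + 1) = 0 ∨ (i + 1) * p ^ (N₀ - d (i + 1)) < l)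
    (z : N) (hz : z ^ p - z = algebraMap L N ξ) :
    ∀ x : N, W.valuation x < 1 → ∃ w ∈ W, x = θ * w := by
  classical
  haveI : CharP N p := charP_of_injective_algebraMap (algebraMap L N).injective p
  have hAB : ∀ a : A, algebraMap A N a = algebraMap B N (algebraMap A B a) := by
    intro a
    rw [IsScalarTower.algebraMap_apply A L N, IsScalarTower.algebraMap_apply A B L,
      ← IsScalarTower.algebraMap_apply B L N]
  have hAW : ∀ a : A, algebraMap A N a ∈ W := fun a => by rw [hAB]; exact hW.1 _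
  have hϖ0 : algebraMap A N π ≠ 0 := by
    rw [IsScalarTower.algebraMap_apply A L N]
    intro h
    exact algebraMap_pi_ne_zero' (L := L) hπ' ((algebraMap L N).injective (by rw [h, map_zero]))
  have hqpos : 0 < p ^ N₀ := pow_pos hp.pos _
  have hθ0 : θ ≠ 0 := by
    intro h0
    rw [h0, zero_pow hqpos.ne', zero_mul] at hrel
    exact hϖ0 hrel
  -- valuation of `π`
  have hvθ : W.valuation (algebraMap B N (algebraMap A B π)) = W.valuation θ ^ (p ^ N₀) := by
    rw [← hAB, hrel, map_mul, map_pow]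
    have hsmall : W.valuation (θ ^ (m * p ^ N₀) * β') < 1 := by
      rw [map_mul, map_pow]
      calc W.valuation θ ^ (m * p ^ N₀) * W.valuation β' ≤ W.valuation θ ^ (m * p ^ N₀) * 1 := by
            gcongr
            exact (W.valuation_le_one_iff _).mpr hβ'
        _ < 1 := by
            rw [mul_one]
            exact pow_lt_one₀ zero_le' hθlt (Nat.mul_ne_zero hm.ne' hqpos.ne')
    have : W.valuation (1 - θ ^ (m * p ^ N₀) * β') = 1 := by
      rw [sub_eq_add_neg]
      apply Valuation.map_one_add_of_lt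
      rw [Valuation.map_neg]
      exact hsmall
    rw [this, mul_one]
  -- the expansion in `N`
  have hexpN : algebraMap L N ξ - ((algebraMap L N y) ^ p - algebraMap L N y) =
      ∑ i ∈ Finset.range n, (algebraMap B N (t (i + 1))) ^ (p ^ d (i + 1)) /
        algebraMap A N π ^ (i + 1) +
      ∑ i ∈ Finset.range n, (algebraMap A N (c (i + 1))) ^ (p ^ N₀) / algebraMap A N π ^ (i + 1) +
      (algebraMap A N a₀ + algebraMap B N b) := by
    have := congrArg (algebraMap L N) hexp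
    simp only [map_sub, map_add, map_pow, map_sum, map_div₀,
      ← IsScalarTower.algebraMap_apply A L N, ← IsScalarTower.algebraMap_apply B L N] at this
    rw [this]
    ring
  obtain ⟨Y, a, haW, hYa, hest⟩ := leading hp W θ β' (algebraMap A N π) N₀ m n hnm hm hθW hθlt hθ0
    hβ' hrel (fun i => algebraMap B N (t i)) (fun i => algebraMap A N (c i)) d
    (fun i => hW.1 _) (fun i => hAW _) hd (algebraMap A N a₀ + algebraMap B N b)
    (add_mem (hAW _) (hW.1 _)) _ hexpN i₀ hi₀ l hl hln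
    (fun i hi hne => by
      rcases hother i hi hne with h0 | h1
      · left; rw [h0, map_zero]
      · right; exact h1)
  -- the Artin–Schreier root
  have hz' : ((z - algebraMap L N y - Y) ^ p - (z - algebraMap L N y - Y)) * θ ^ (p * k) = a := by
    rw [wp_sub hp, wp_sub hp, hz, ← hlk]
    exact hYa
  obtain ⟨hY'W, hY'⟩ := as_root hp W θ (z - algebraMap L N y - Y) a
    (algebraMap B N (t (i₀ + 1))) k hk hθlt haW hz' hest
  exact core4 B L hp W hW (p ^ N₀) hqpos hdeg hπ' θ hvθ (t (i₀ + 1)) hti₀ _ hY'W hY'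

end LocalJ

section WU

/-- if a uniformizer of `W` comes from `K₁`, then `W ∩ K₁ → W` is weakly unramified. -/
theorem wu_of_uniformizer {K₁ N : Type u} [Field K₁] [Field N] (f : K₁ →+* N)
    (W : ValuationSubring N) (πB : K₁) (hmem : f πB ∈ W) (hlt : W.valuation (f πB) < 1)
    (hgen : ∀ x : N, W.valuation x < 1 → ∃ w ∈ W, x = f πB * w) :
    letI : Algebra (W.comap f) W := (EtRam.inclOfComap W f).toAlgebra
    EtRam.IsWeaklyUnramified (W.comap f) W := by
  letI algVW : Algebra (W.comap f) W := (EtRam.inclOfComap W f).toAlgebra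
  show Ideal.map (algebraMap (W.comap f) W) (maximalIdeal (W.comap f)) = maximalIdeal W
  apply le_antisymm
  · have hloc : IsLocalHom (algebraMap (W.comap f) W) := EtRam.isLocalHom_inclOfComap W f
    exact ((IsLocalRing.local_hom_TFAE (algebraMap (W.comap f) W)).out 0 2).mp hloc
  · intro x hx
    have hxlt : W.valuation (x : N) < 1 := (W.valuation_lt_one_iff x).mp hx
    obtain ⟨w, hwW, hxw⟩ := hgen (x : N) hxlt
    have hπBmem : πB ∈ W.comap f := hmem
    have hπBmax : (⟨πB, hπBmem⟩ : W.comap f) ∈ maximalIdeal (W.comap f) := by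
      rw [ValuationSubring.valuation_lt_one_iff,
        Groth.Agent.Lib.Helper9.AbhyankarCore.valuation_comap_lt_one_iff]
      exact hlt
    have hxeq : x = algebraMap (W.comap f) W ⟨πB, hπBmem⟩ * ⟨w, hwW⟩ := by
      apply Subtype.ext
      exact hxw
    rw [hxeq]
    exact Ideal.mul_mem_right _ _ (Ideal.mem_map_of_mem _ hπBmax)

end WU

end Groth.Agent.Lib.Helper9.ASWeak
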