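import Mathlib
import Groth.Agent.Lib.Helper9.ASWeak.ArtinSchreier

/-!
# Reduced polar expansions modulo the Artin–Schreier operator (helper9)

For a weakly unramified extension `A ⊆ B` of discrete valuation rings of characteristic `p` whose
residue fields satisfy `κ_A = ⋂ κ_B ^ (p ^ n)`, every element of the fraction field of `B` is,
modulo `℘(L) + B`, a sum of terms `t ^ (p ^ d) / π ^ i` (with `t` a unit whose residue is not a
`p`-th power, and `d = 0` when `p ∣ i`) and terms `a / π ^ i` (with `a` a unit of `A`, `p ∤ i`).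
-/

set_option autoImplicit false
universe u

open IsLocalRing

namespace Groth.Agent.Lib.Helper9.ASWeak

section Residue

variable {p : ℕ} {A B : Type u} [CommRing A] [IsDomain A] [IsDiscreteValuationRing A]
  [CommRing B] [IsDomain B] [IsDiscreteValuationRing B] [Algebra A B]
  [IsLocalHom (algebraMap A B)]

/-- the hypothesis on residue fields. -/
def ResHyp (p : ℕ) (A B : Type u) [CommRing A] [IsDomain A] [IsDiscreteValuationRing A]
    [CommRing B] [IsDomain B] [IsDiscreteValuationRing B] [Algebra A B]
    [IsLocalHom (algebraMap A B)] : Prop :=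
  ∀ x : ResidueField B, (∀ n : ℕ, ∃ y : ResidueField B, y ^ (p ^ n) = x) ↔
    x ∈ Set.range (algebraMap (ResidueField A) (ResidueField B))

theorem range_pth (hp : p.Prime) [CharP (ResidueField B) p] (hk : ResHyp p A B)
    {x : ResidueField B} (hx : x ∈ Set.range (algebraMap (ResidueField A) (ResidueField B))) :
    ∃ y ∈ Set.range (algebraMap (ResidueField A) (ResidueField B)), y ^ p = x := by
  haveI : Fact p.Prime := ⟨hp⟩
  have h1 := (hk x).mpr hx
  obtain ⟨y, hy⟩ := h1 1
  rw [pow_one] at hy
  refine ⟨y, (hk y).mp (fun n => ?_), hy⟩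
  obtain ⟨w, hw⟩ := h1 (n + 1)
  refine ⟨w, ?_⟩
  have : (w ^ (p ^ n)) ^ p = y ^ p := by rw [← pow_mul, ← pow_succ, hw, hy]
  exact frobenius_inj (ResidueField B) p this

theorem classify (hk : ResHyp p A B) (x : ResidueField B) :
    x ∈ Set.range (algebraMap (ResidueField A) (ResidueField B)) ∨
      ∃ (d : ℕ) (μ : ResidueField B), μ ^ (p ^ d) = x ∧ ∀ ν : ResidueField B, ν ^ p ≠ μ := by
  classical
  by_cases hx : x ∈ Set.range (algebraMap (ResidueField A) (ResidueField B))
  · exact Or.inl hx
  · right
    have h1 : ¬ ∀ n : ℕ, ∃ y : ResidueField B, y ^ (p ^ n) = x := fun h => hx ((hk x).mp h)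
    push Not at h1
    have hn := Nat.find_spec h1
    have hmin := fun m (hm : m < Nat.find h1) => Nat.find_min h1 hm
    have hpos : Nat.find h1 ≠ 0 := by
      intro h0
      rw [h0] at hn
      exact hn x (by simp)
    obtain ⟨d, hd⟩ := Nat.exists_eq_succ_of_ne_zero hpos
    have hdlt : d < Nat.find h1 := by omega
    have := hmin d hdlt
    push Not at this
    obtain ⟨μ, hμ⟩ := this
    refine ⟨d, μ, hμ, fun ν hν => ?_⟩
    apply hn ν
    rw [hd, pow_succ, mul_comm, pow_mul, hν, hμ]

/-- residues of elements of `A`. -/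
theorem mem_range_iff (x : B) :
    residue B x ∈ Set.range (algebraMap (ResidueField A) (ResidueField B)) ↔
      ∃ a : A, residue B x = residue B (algebraMap A B a) := by
  constructor
  · rintro ⟨c, hc⟩
    obtain ⟨a, rfl⟩ := residue_surjective c
    exact ⟨a, by rw [← hc]; rfl⟩
  · rintro ⟨a, ha⟩
    exact ⟨residue A a, by rw [ha]; rfl⟩

end Residue

section Reduce

variable {p : ℕ} {A B L : Type u} [CommRing A] [IsDomain A] [IsDiscreteValuationRing A]
  [CommRing B] [IsDomain B] [IsDiscreteValuationRing B] [Algebra A B]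
  [IsLocalHom (algebraMap A B)] [Field L] [Algebra B L] [IsFractionRing B L] [Algebra A L]
  [IsScalarTower A B L]

omit [IsDomain A] [IsDiscreteValuationRing A] [IsLocalHom (algebraMap A B)] in
theorem algebraMap_pi_ne_zero {π : A} (hπ' : Irreducible (algebraMap A B π)) :
    algebraMap A L π ≠ 0 := by
  rw [IsScalarTower.algebraMap_apply A B L]
  intro h
  exact hπ'.ne_zero (IsFractionRing.injective B L (by rw [h, map_zero]))

omit [IsDomain A] [IsDiscreteValuationRing A] [IsLocalHom (algebraMap A B)] in
/-- subtracting a term with the right residue lowers the pole order. -/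
theorem step {π : A} (hπ' : Irreducible (algebraMap A B π)) {n : ℕ} {ξ : L} {x s : B}
    (hx : ξ * algebraMap A L π ^ (n + 1) = algebraMap B L x)
    (hs : residue B x = residue B s) :
    ∃ x₁ : B, (ξ - algebraMap B L s / algebraMap A L π ^ (n + 1)) * algebraMap A L π ^ n =
      algebraMap B L x₁ := by
  have hϖ : algebraMap A L π ≠ 0 := algebraMap_pi_ne_zero hπ'
  have hmem : x - s ∈ maximalIdeal B := by
    rw [← residue_eq_zero_iff, map_sub, hs, sub_self]
  rw [hπ'.maximalIdeal_eq, Ideal.mem_span_singleton'] at hmem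
  obtain ⟨x₁, hx₁⟩ := hmem
  refine ⟨x₁, ?_⟩
  apply mul_right_cancel₀ hϖ
  have e1 : algebraMap B L x₁ * algebraMap A L π = algebraMap B L x - algebraMap B L s := by
    rw [IsScalarTower.algebraMap_apply A B L, ← map_mul, hx₁, map_sub]
  rw [e1, ← hx]
  field_simp
  ring

set_option maxHeartbeats 1600000 in
/-- the reduced polar expansion. -/
theorem reduce (hp : p.Prime) [CharP L p] (hk : ResHyp p A B) {π : A}
    (hπ' : Irreducible (algebraMap A B π)) :
    ∀ (n : ℕ) (ξ : L), (∃ x : B, ξ * algebraMap A L π ^ n = algebraMap B L x) →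
      ∃ (y : L) (b : B) (t : ℕ → B) (d : ℕ → ℕ) (a : ℕ → A),
        ξ - (y ^ p - y) = ∑ i ∈ Finset.range n,
          (algebraMap B L (t (i + 1)) ^ (p ^ d (i + 1)) + algebraMap A L (a (i + 1))) /
            algebraMap A L π ^ (i + 1) + algebraMap B L b ∧
        (∀ i, t i = 0 ∨ ((∀ r : B, residue B (t i) ≠ residue B r ^ p) ∧ (p ∣ i → d i = 0))) ∧
        (∀ i, a i = 0 ∨ (IsUnit (a i) ∧ ¬ p ∣ i)) ∧
        (∀ i, n < i → t i = 0 ∧ a i = 0) := by
  classical
  haveI : Fact p.Prime := ⟨hp⟩
  haveI : CharP B p := RingHom.charP (algebraMap B L) (IsFractionRing.injective B L) p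
  haveI : CharP (ResidueField B) p := CharP.of_ringHom_of_ne_zero (residue B) p hp.ne_zero
  have hϖ : algebraMap A L π ≠ 0 := algebraMap_pi_ne_zero hπ'
  intro n
  induction n with
  | zero =>
    rintro ξ ⟨x, hx⟩
    refine ⟨0, x, fun _ => 0, fun _ => 0, fun _ => 0, ?_, fun i => Or.inl rfl,
      fun i => Or.inl rfl, fun i _ => ⟨rfl, rfl⟩⟩
    rw [pow_zero, mul_one] at hx
    simp [hx, hp.ne_zero]
  | succ n ih =>
    rintro ξ ⟨x, hx⟩
    -- extension of a solution for `n` to one for `n + 1` with zero top term
    have extend : ∀ (y : L) (b : B) (t : ℕ → B) (d : ℕ → ℕ) (a : ℕ → A),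
        ξ - (y ^ p - y) = ∑ i ∈ Finset.range n,
          (algebraMap B L (t (i + 1)) ^ (p ^ d (i + 1)) + algebraMap A L (a (i + 1))) /
            algebraMap A L π ^ (i + 1) + algebraMap B L b →
        (∀ i, n < i → t i = 0 ∧ a i = 0) →
        ξ - (y ^ p - y) = ∑ i ∈ Finset.range (n + 1),
          (algebraMap B L (t (i + 1)) ^ (p ^ d (i + 1)) + algebraMap A L (a (i + 1))) /
            algebraMap A L π ^ (i + 1) + algebraMap B L b := by
      intro y b t d a h hsup
      rw [Finset.sum_range_succ, h, (hsup (n + 1) (Nat.lt_succ_self n)).1,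
        (hsup (n + 1) (Nat.lt_succ_self n)).2]
      simp [hp.ne_zero]
    by_cases hxu : IsUnit x
    swap
    · -- `x` is not a unit: lower pole order
      have hmem : x ∈ maximalIdeal B := (mem_maximalIdeal x).mpr hxu
      rw [hπ'.maximalIdeal_eq, Ideal.mem_span_singleton'] at hmem
      obtain ⟨x', hx'⟩ := hmem
      have hx2 : ξ * algebraMap A L π ^ n = algebraMap B L x' := by
        apply mul_right_cancel₀ hϖ
        rw [mul_assoc, ← pow_succ, hx, ← hx', map_mul, IsScalarTower.algebraMap_apply A B L]
      obtain ⟨y, b, t, d, a, h1, h2, h3, h4⟩ := ih ξ ⟨x', hx2⟩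
      exact ⟨y, b, t, d, a, extend y b t d a h1 h4, h2, h3,
        fun i hi => h4 i (by omega)⟩
    · have hlam : residue B x ≠ 0 := by
        rw [Ne, residue_eq_zero_iff, mem_maximalIdeal, mem_nonunits_iff]
        exact fun h => h hxu
      by_cases hR : p ∣ n + 1 ∧ ∃ ν : ResidueField B, ν ^ p = residue B x
      · -- the top term is a `p`-th power: reduce
        obtain ⟨⟨k, hk'⟩, ν, hν⟩ := hR
        obtain ⟨r, rfl⟩ := residue_surjective ν
        have hk1 : 1 ≤ k := by
          rcases Nat.eq_zero_or_pos k with h0 | h0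
          · rw [h0, mul_zero] at hk'; omega
          · exact h0
        have hkn : k ≤ n := by
          have := hp.two_le
          nlinarith
        obtain ⟨j, hj⟩ := Nat.exists_eq_add_of_le hkn
        obtain ⟨y₀, hy₀⟩ : ∃ y₀ : L, y₀ = algebraMap B L r / algebraMap A L π ^ k := ⟨_, rfl⟩
        have hy₀p : y₀ ^ p = algebraMap B L (r ^ p) / algebraMap A L π ^ (n + 1) := by
          rw [hy₀, div_pow, ← pow_mul, mul_comm k p, ← hk', map_pow]
        obtain ⟨x₁, hx₁⟩ := step hπ' hx (s := r ^ p) (by rw [map_pow, hν])
        have hx2 : (ξ - (y₀ ^ p - y₀)) * algebraMap A L π ^ n =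
            algebraMap B L (x₁ + r * algebraMap A B π ^ j) := by
          have e2 : algebraMap B L (r * algebraMap A B π ^ j) =
              algebraMap B L r * algebraMap A L π ^ j := by
            rw [map_mul, map_pow, ← IsScalarTower.algebraMap_apply A B L]
          have e3 : y₀ * algebraMap A L π ^ n = algebraMap B L r * algebraMap A L π ^ j := by
            rw [hy₀, hj, pow_add]
            field_simp
          rw [map_add, ← hx₁, e2, hy₀p]
          linear_combination e3
        obtain ⟨y, b, t, d, a, h1, h2, h3, h4⟩ := ih _ ⟨_, hx2⟩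
        refine ⟨y + y₀, b, t, d, a, ?_, h2, h3, fun i hi => h4 i (by omega)⟩
        have h5 : ξ - ((y + y₀) ^ p - (y + y₀)) = ξ - (y₀ ^ p - y₀) - (y ^ p - y) := by
          rw [wp_add hp]; ring
        rw [h5, h1, Finset.sum_range_succ, (h4 (n + 1) (Nat.lt_succ_self n)).1,
          (h4 (n + 1) (Nat.lt_succ_self n)).2]
        simp [hp.ne_zero]
      · -- record the top term
        rcases classify hk (residue B x) with hI | ⟨d₀, μ, hμ, hμp⟩
        · -- a residue from `A`
          obtain ⟨a₀, ha₀⟩ := (mem_range_iff x).mp hI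
          have ha₀u : IsUnit a₀ := by
            by_contra hnu
            have : algebraMap A B a₀ ∈ maximalIdeal B := by
              rw [mem_maximalIdeal, mem_nonunits_iff]
              intro hu
              exact hnu ((isUnit_map_iff (algebraMap A B) a₀).mp hu)
            rw [← residue_eq_zero_iff] at this
            rw [this] at ha₀
            exact hlam ha₀
          have hnp : ¬ p ∣ n + 1 := by
            intro hdvd
            obtain ⟨ν, -, hν⟩ := range_pth hp hk hI
            exact hR ⟨hdvd, ν, hν⟩
          obtain ⟨x₁, hx₁⟩ := step hπ' hx (s := algebraMap A B a₀) ha₀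
          obtain ⟨y, b, t, d, a, h1, h2, h3, h4⟩ := ih _ ⟨_, hx₁⟩
          refine ⟨y, b, t, d, Function.update a (n + 1) a₀, ?_, h2, ?_, ?_⟩
          · have h5 : ξ - (y ^ p - y) = (ξ - algebraMap B L (algebraMap A B a₀) /
                algebraMap A L π ^ (n + 1) - (y ^ p - y)) +
                algebraMap A L a₀ / algebraMap A L π ^ (n + 1) := by
              rw [← IsScalarTower.algebraMap_apply A B L]; ring
            rw [h5, h1, Finset.sum_range_succ, (h4 (n + 1) (Nat.lt_succ_self n)).1,
              Function.update_self]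
            have hsum : ∀ i ∈ Finset.range n,
                (algebraMap B L (t (i + 1)) ^ (p ^ d (i + 1)) +
                  algebraMap A L (Function.update a (n + 1) a₀ (i + 1))) /
                  algebraMap A L π ^ (i + 1) =
                (algebraMap B L (t (i + 1)) ^ (p ^ d (i + 1)) + algebraMap A L (a (i + 1))) /
                  algebraMap A L π ^ (i + 1) := by
              intro i hi
              rw [Function.update_of_ne (by have := Finset.mem_range.mp hi; omega)]
            rw [Finset.sum_congr rfl hsum]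
            simp [hp.ne_zero]
            ring
          · intro i
            by_cases hi : i = n + 1
            · subst hi
              rw [Function.update_self]
              exact Or.inr ⟨ha₀u, hnp⟩
            · rw [Function.update_of_ne hi]
              exact h3 i
          · intro i hi
            rw [Function.update_of_ne (by omega)]
            exact h4 i (by omega)
        · -- a residue of finite depth
          obtain ⟨t₀, rfl⟩ := residue_surjective μ
          have hd₀ : p ∣ n + 1 → d₀ = 0 := by
            intro hdvd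
            by_contra hne
            obtain ⟨d₁, hd₁⟩ := Nat.exists_eq_succ_of_ne_zero hne
            apply hR
            refine ⟨hdvd, residue B t₀ ^ (p ^ d₁), ?_⟩
            rw [← pow_mul, ← pow_succ]
            rw [hd₁] at hμ
            exact hμ
          obtain ⟨x₁, hx₁⟩ := step hπ' hx (s := t₀ ^ (p ^ d₀)) (by rw [map_pow, hμ])
          obtain ⟨y, b, t, d, a, h1, h2, h3, h4⟩ := ih _ ⟨_, hx₁⟩
          refine ⟨y, b, Function.update t (n + 1) t₀, Function.update d (n + 1) d₀, a, ?_, ?_, h3,
            ?_⟩
          · have h5 : ξ - (y ^ p - y) = (ξ - algebraMap B L (t₀ ^ (p ^ d₀)) /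
                algebraMap A L π ^ (n + 1) - (y ^ p - y)) +
                algebraMap B L t₀ ^ (p ^ d₀) / algebraMap A L π ^ (n + 1) := by
              rw [map_pow]; ring
            rw [h5, h1, Finset.sum_range_succ, (h4 (n + 1) (Nat.lt_succ_self n)).2,
              Function.update_self, Function.update_self]
            have hsum : ∀ i ∈ Finset.range n,
                (algebraMap B L (Function.update t (n + 1) t₀ (i + 1)) ^
                  (p ^ Function.update d (n + 1) d₀ (i + 1)) + algebraMap A L (a (i + 1))) /
                  algebraMap A L π ^ (i + 1) =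
                (algebraMap B L (t (i + 1)) ^ (p ^ d (i + 1)) + algebraMap A L (a (i + 1))) /
                  algebraMap A L π ^ (i + 1) := by
              intro i hi
              rw [Function.update_of_ne (by have := Finset.mem_range.mp hi; omega),
                Function.update_of_ne (by have := Finset.mem_range.mp hi; omega)]
            rw [Finset.sum_congr rfl hsum]
            simp
            ring
          · intro i
            by_cases hi : i = n + 1
            · subst hi
              rw [Function.update_self, Function.update_self]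
              refine Or.inr ⟨fun r hr => ?_, hd₀⟩
              obtain ⟨r, rfl⟩ : ∃ r', r' = r := ⟨r, rfl⟩
              exact hμp (residue B r) hr.symm
            · rw [Function.update_of_ne hi, Function.update_of_ne hi]
              exact h2 i
          · intro i hi
            rw [Function.update_of_ne (by omega)]
            exact h4 i (by omega)

end Reduce

section DigitsA

variable {p : ℕ} {A K : Type u} [CommRing A] [IsDomain A] [IsDiscreteValuationRing A]
  [Field K] [Algebra A K] [IsFractionRing A K]

theorem exists_pow_root {k : Type*} [Field k] (hperf : ∀ x : k, ∃ y : k, y ^ p = x) (N : ℕ)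
    (x : k) : ∃ y : k, y ^ (p ^ N) = x := by
  induction N generalizing x with
  | zero => exact ⟨x, by simp⟩
  | succ N ih =>
    obtain ⟨y, hy⟩ := hperf x
    obtain ⟨w, hw⟩ := ih y
    exact ⟨w, by rw [pow_succ, pow_mul, hw, hy]⟩

/-- expansion of an element of `K` with digits which are `p ^ N`-th powers, over a discrete
valuation ring with perfect residue field. -/
theorem digits_pow (hperf : ∀ x : ResidueField A, ∃ y : ResidueField A, y ^ p = x) {π : A}
    (hπ : Irreducible π) (N : ℕ) :
    ∀ (n : ℕ) (a : K), (∃ x : A, a * algebraMap A K π ^ n = algebraMap A K x) →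
      ∃ (c : ℕ → A) (a₀ : A), a = ∑ i ∈ Finset.range n,
        algebraMap A K (c (i + 1)) ^ (p ^ N) / algebraMap A K π ^ (i + 1) + algebraMap A K a₀ := by
  classical
  have hπ' : Irreducible (algebraMap A A π) := hπ
  intro n
  induction n with
  | zero =>
    rintro a ⟨x, hx⟩
    refine ⟨fun _ => 0, x, ?_⟩
    rw [pow_zero, mul_one] at hx
    simp [hx]
  | succ n ih =>
    rintro a ⟨x, hx⟩
    obtain ⟨μ, hμ⟩ := exists_pow_root hperf N (residue A x)
    obtain ⟨c₀, rfl⟩ := residue_surjective μ
    obtain ⟨x₁, hx₁⟩ := step (A := A) (B := A) (L := K) hπ' hx (s := c₀ ^ (p ^ N))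
      (by rw [map_pow, hμ])
    obtain ⟨c, a₀, hc⟩ := ih _ ⟨x₁, hx₁⟩
    refine ⟨Function.update c (n + 1) c₀, a₀, ?_⟩
    have h5 : a = (a - algebraMap A K (c₀ ^ (p ^ N)) / algebraMap A K π ^ (n + 1)) +
        algebraMap A K c₀ ^ (p ^ N) / algebraMap A K π ^ (n + 1) := by
      rw [map_pow]; ring
    rw [h5, hc, Finset.sum_range_succ, Function.update_self]
    have hsum : ∀ i ∈ Finset.range n,
        algebraMap A K (Function.update c (n + 1) c₀ (i + 1)) ^ (p ^ N) /
          algebraMap A K π ^ (i + 1) =
        algebraMap A K (c (i + 1)) ^ (p ^ N) / algebraMap A K π ^ (i + 1) := by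
      intro i hi
      rw [Function.update_of_ne (by have := Finset.mem_range.mp hi; omega)]
    rw [Finset.sum_congr rfl hsum]
    ring

/-- a sum of terms `a_i / π ^ i` with `a_i` units of `A` at indices prime to `p`. -/
theorem polar_unit {π : A} (hπ : Irreducible π) (a : ℕ → A)
    (ha : ∀ i, a i = 0 ∨ (IsUnit (a i) ∧ ¬ p ∣ i)) :
    ∀ n : ℕ,
      (∃ x : A, (∑ i ∈ Finset.range n, algebraMap A K (a (i + 1)) / algebraMap A K π ^ (i + 1)) *
        algebraMap A K π ^ n = algebraMap A K x) ∧
      ((∑ i ∈ Finset.range n, algebraMap A K (a (i + 1)) / algebraMap A K π ^ (i + 1)) = 0 ∨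
        ∃ n₀ : ℕ, 0 < n₀ ∧ ¬ p ∣ n₀ ∧ ∃ u : Aˣ,
          (∑ i ∈ Finset.range n, algebraMap A K (a (i + 1)) / algebraMap A K π ^ (i + 1)) *
            algebraMap A K π ^ n₀ = algebraMap A K (u : A)) := by
  have hϖ : algebraMap A K π ≠ 0 := fun h =>
    hπ.ne_zero (IsFractionRing.injective A K (by rw [h, map_zero]))
  intro n
  induction n with
  | zero => exact ⟨⟨0, by simp⟩, Or.inl (by simp)⟩
  | succ n ih =>
    obtain ⟨⟨x, hx⟩, ih2⟩ := ih
    have key : (∑ i ∈ Finset.range (n + 1), algebraMap A K (a (i + 1)) /
        algebraMap A K π ^ (i + 1)) * algebraMap A K π ^ (n + 1) =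
        algebraMap A K (x * π + a (n + 1)) := by
      rw [Finset.sum_range_succ, add_mul, map_add, map_mul, ← hx]
      field_simp
      ring
    refine ⟨⟨_, key⟩, ?_⟩
    rcases ha (n + 1) with h0 | ⟨hu, hnp⟩
    · rw [Finset.sum_range_succ, h0, map_zero, zero_div, add_zero]
      exact ih2
    · right
      refine ⟨n + 1, Nat.succ_pos n, hnp, ?_⟩
      have hunit : IsUnit (x * π + a (n + 1)) := by
        have hnon : x * π ∈ maximalIdeal A :=
          Ideal.mul_mem_left _ _ ((mem_maximalIdeal π).mpr hπ.not_isUnit)
        by_contra hcon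
        have h1 : x * π + a (n + 1) ∈ maximalIdeal A := (mem_maximalIdeal _).mpr hcon
        have h2 : a (n + 1) ∈ maximalIdeal A := by
          have := (maximalIdeal A).sub_mem h1 hnon
          rwa [add_sub_cancel_left] at this
        exact (mem_maximalIdeal _).mp h2 hu
      exact ⟨hunit.unit, key⟩

end DigitsA

end Groth.Agent.Lib.Helper9.ASWeak
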