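import Mathlib
import Groth.Agent.S7157
import Groth.Agent.Lib.Helper9.TameBC
import Groth.Agent.Lib.Helper9.DVRExt
import Groth.Agent.Lib.Helper9.ASWeak.Reduce
import Groth.Agent.Lib.Helper9.ASWeak.Local
import Groth.Agent.Lib.Helper9.ASWeak.Compose

/-!
# The Artin–Schreier case of Epp's theorem: assembly (helper9)
-/

set_option autoImplicit false
universe u

open IsLocalRing Polynomial

namespace Groth.Agent.Lib.Helper9.ASWeak

section ASExt

/-- an Artin–Schreier extension with prescribed right-hand side. -/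
theorem exists_AS_extension {p : ℕ} (hp : p.Prime) (K : Type u) [Field K] (a' : K) :
    ∃ (K₁ : Type u) (_ : Field K₁) (_ : Algebra K K₁) (z₁ : K₁),
      z₁ ^ p - z₁ = algebraMap K K₁ a' ∧ IntermediateField.adjoin K {z₁} = ⊤ := by
  classical
  have hPdeg : (X ^ p - X - Polynomial.C a' : K[X]).natDegree = p := by
    have h1 : (X ^ p - X - Polynomial.C a' : K[X]) = X ^ p - (X + Polynomial.C a') := by ring
    rw [h1, natDegree_sub_eq_left_of_natDegree_lt]
    · exact natDegree_X_pow p
    · rw [natDegree_X_pow, natDegree_X_add_C]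
      exact hp.one_lt
  obtain ⟨g, hg, hgP⟩ := exists_irreducible_of_natDegree_pos
    (f := (X ^ p - X - Polynomial.C a' : K[X])) (by rw [hPdeg]; exact hp.pos)
  haveI : Fact (Irreducible g) := ⟨hg⟩
  refine ⟨AdjoinRoot g, inferInstance, inferInstance, AdjoinRoot.root g, ?_, ?_⟩
  · obtain ⟨h, hh⟩ := hgP
    have h1 : aeval (AdjoinRoot.root g) (X ^ p - X - Polynomial.C a' : K[X]) = 0 := by
      rw [hh, map_mul, AdjoinRoot.aeval_eq, AdjoinRoot.mk_self, zero_mul]
    rw [map_sub, map_sub, map_pow, aeval_X, aeval_C, sub_eq_zero] at h1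
    exact h1
  · exact IntermediateField.adjoin_eq_top_of_algebra K _ AdjoinRoot.adjoinRoot_eq_top

end ASExt

section Combinatorics

theorem weight_inj {p : ℕ} (hp : p.Prime) {N₀ a b d₁ d₂ : ℕ} (hd₁ : d₁ ≤ N₀) (hd₂ : d₂ ≤ N₀)
    (ha : p ∣ a → d₁ = 0) (hb : p ∣ b → d₂ = 0)
    (h : a * p ^ (N₀ - d₁) = b * p ^ (N₀ - d₂)) : a = b := by
  have key : ∀ {a b d₁ d₂ : ℕ}, d₁ ≤ N₀ → d₂ ≤ N₀ → (p ∣ b → d₂ = 0) → d₁ < d₂ →
      a * p ^ (N₀ - d₁) = b * p ^ (N₀ - d₂) → False := by
    intro a b d₁ d₂ hd₁ hd₂ hb hlt h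
    obtain ⟨c, hc⟩ := Nat.exists_eq_add_of_lt hlt
    have h1 : N₀ - d₁ = (N₀ - d₂) + (c + 1) := by omega
    rw [h1, pow_add, ← mul_assoc, mul_comm a, mul_comm b, mul_assoc] at h
    have h2 : a * p ^ (c + 1) = b := Nat.eq_of_mul_eq_mul_left (pow_pos hp.pos _) h
    have h3 : p ∣ b := by
      rw [← h2, pow_succ, ← mul_assoc]
      exact Dvd.intro_left _ rfl
    have := hb h3
    omega
  rcases lt_trichotomy d₁ d₂ with hlt | heq | hgt
  · exact (key hd₁ hd₂ hb hlt h).elim
  · subst heq
    exact Nat.eq_of_mul_eq_mul_right (pow_pos hp.pos _) h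
  · exact (key hd₂ hd₁ ha hgt h.symm).elim

end Combinatorics

section Composite

open TensorProduct

/-- the degree of a composite. -/
theorem finrank_composite_le (K M K₁ N : Type u) [Field K] [Field M] [Field K₁] [Field N]
    [Algebra K M] [Algebra K K₁] [FiniteDimensional K K₁] [Algebra.IsSeparable K K₁]
    [Algebra K N] [Algebra M N] [Algebra K₁ N] [IsScalarTower K M N] [IsScalarTower K K₁ N]
    (hgen : Algebra.adjoin M (Set.range (algebraMap K₁ N)) = ⊤) :
    FiniteDimensional M N ∧ Module.finrank M N ≤ Module.finrank K K₁ := by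
  let ψ : M ⊗[K] K₁ →ₐ[M] N :=
    Algebra.TensorProduct.productLeftAlgHom (Algebra.ofId M N) (IsScalarTower.toAlgHom K K₁ N)
  have hψr : ψ.range = ⊤ := by
    rw [eq_top_iff, ← hgen]
    apply Algebra.adjoin_le
    rintro _ ⟨k, rfl⟩
    refine ⟨(1 : M) ⊗ₜ[K] k, ?_⟩
    simp [ψ]
  have hψ : Function.Surjective ψ := (AlgHom.range_eq_top ψ).mp hψr
  obtain ⟨hfd, -⟩ := Groth.Agent.Lib.Helper9.TameBC.finite_separable_of_quotient K M K₁ N ψ hψ
  refine ⟨hfd, ?_⟩
  have h1 : Module.finrank M N ≤ Module.finrank M (M ⊗[K] K₁) :=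
    LinearMap.finrank_le_finrank_of_surjective (f := ψ.toLinearMap) hψ
  rwa [Module.finrank_baseChange] at h1

end Composite

section Main

variable {p : ℕ} (A B C K L M : Type u)
    [CommRing A] [IsDomain A] [IsDiscreteValuationRing A] [CommRing B] [IsDomain B]
    [IsDiscreteValuationRing B] [CommRing C] [IsDomain C] [IsDiscreteValuationRing C]
    [Algebra A B] [Algebra B C] [Algebra A C] [IsScalarTower A B C]
    [IsLocalHom (algebraMap A B)] [IsLocalHom (algebraMap B C)]
    [Field K] [Field L] [Field M] [Algebra A K] [IsFractionRing A K] [Algebra B L]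
    [IsFractionRing B L] [Algebra C M] [IsFractionRing C M] [Algebra K L] [Algebra L M]
    [Algebra K M] [IsScalarTower K L M] [Algebra A L] [IsScalarTower A K L] [IsScalarTower A B L]
    [Algebra B M] [IsScalarTower B L M] [IsScalarTower B C M]
    [Algebra A M] [IsScalarTower A K M] [IsScalarTower A C M]

omit [IsDomain A] [IsDiscreteValuationRing A] [Algebra A B] [Algebra A C] [IsScalarTower A B C]
  [IsLocalHom (algebraMap A B)] [Algebra A K] [IsFractionRing A K] [Algebra A L]
  [IsScalarTower A K L] [IsScalarTower A B L] [Algebra A M] [IsScalarTower A K M]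
  [IsScalarTower A C M] [CommRing A] in
/-- domination of `C` gives domination of `B`. -/
theorem dominates_B {N : Type u} [Field N] [Algebra K N] [Algebra M N] [IsScalarTower K M N]
    [Algebra L N] [IsScalarTower L M N] (W : ValuationSubring N)
    (hW : EtRam.Dominates C ((algebraMap M N).comp (algebraMap C M)) W) :
    EtRam.Dominates B ((algebraMap L N).comp (algebraMap B L)) W := by
  have key : ∀ x : B, algebraMap L N (algebraMap B L x) =
      algebraMap M N (algebraMap C M (algebraMap B C x)) := by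
    intro x
    rw [IsScalarTower.algebraMap_apply L M N, ← IsScalarTower.algebraMap_apply B L M,
      IsScalarTower.algebraMap_apply B C M]
  refine ⟨fun x => ?_, fun x hx => ?_⟩
  · rw [RingHom.comp_apply, key]
    exact hW.1 _
  · rw [RingHom.comp_apply, key]
    apply hW.2
    rw [mem_maximalIdeal, mem_nonunits_iff] at hx ⊢
    intro hu
    exact hx ((isUnit_map_iff (algebraMap B C) x).mp hu)

set_option maxHeartbeats 4000000 in
set_option synthInstance.maxHeartbeats 200000 in
/-- the case where the polar part comes from `K`. -/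
theorem caseI (hp : p.Prime) [CharP K p] (hAB : Function.Injective (algebraMap A B))
    (hw : EtRam.IsWeaklyUnramified A B) {π : A} (hπ : Irreducible π)
    (ξ : L) (z : M) (hz : z ^ p - z = algebraMap L M ξ)
    (hzgen : Algebra.adjoin L {z} = ⊤)
    (a' : K) (n₀ : ℕ) (u : Aˣ) (ha' : a' * algebraMap A K π ^ n₀ = algebraMap A K (u : A))
    (hn₀ : 0 < n₀) (hpn₀ : ¬ p ∣ n₀) (e : K) (he : e ^ p = e) (y : L) (b : B)
    (hξ : ξ - (y ^ p - y) = algebraMap K L (e * a') + algebraMap B L b) :
    ∃ (K₁ : Type u) (_ : Field K₁) (_ : Algebra K K₁), FiniteDimensional K K₁ ∧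
      Algebra.IsSeparable K K₁ ∧
      EtRam.IsTotallyRamified A ((algebraMap K K₁).comp (algebraMap A K)) ∧
      EtRam.IsWeakSolution C K M K₁ := by
  classical
  haveI : Fact p.Prime := ⟨hp⟩
  haveI : CharP L p := charP_of_injective_algebraMap (algebraMap K L).injective p
  -- the Artin–Schreier extension of `K`
  obtain ⟨K₁, fK₁, algKK₁, z₁, hz₁, hgen₁⟩ := exists_AS_extension hp K a'
  letI algAK₁ : Algebra A K₁ := ((algebraMap K K₁).comp (algebraMap A K)).toAlgebra
  haveI towAKK₁ : IsScalarTower A K K₁ := IsScalarTower.of_algebraMap_eq (fun _ => rfl)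
  obtain ⟨hgal, -, -, hBcase, -⟩ :=
    Groth.Agent.S7158.result p hp A K K₁ π hπ.maximalIdeal_eq a' z₁ hz₁ hgen₁
  obtain ⟨ht, hdeg₁⟩ := hBcase n₀ u hn₀ hpn₀ ha'
  haveI hfd : FiniteDimensional K K₁ :=
    Module.finite_of_finrank_pos (by rw [hdeg₁]; exact hp.pos)
  haveI := hgal
  haveI hsep : Algebra.IsSeparable K K₁ := inferInstance
  have ht' : EtRam.IsTotallyRamified A ((algebraMap K K₁).comp (algebraMap A K)) := ht
  refine ⟨K₁, fK₁, algKK₁, hfd, hsep, ht', ?_⟩
  intro N _ _ _ _ _ _ hgen W hW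
  letI algLN : Algebra L N := ((algebraMap M N).comp (algebraMap L M)).toAlgebra
  haveI towLMN : IsScalarTower L M N := IsScalarTower.of_algebraMap_eq (fun _ => rfl)
  haveI towKLN : IsScalarTower K L N := IsScalarTower.of_algebraMap_eq (fun x => by
    show algebraMap K N x = algebraMap M N (algebraMap L M (algebraMap K L x))
    rw [← IsScalarTower.algebraMap_apply K L M, ← IsScalarTower.algebraMap_apply K M N])
  have hWB := dominates_B B C K L M W hW
  obtain ⟨zt, hzt⟩ : ∃ zt : N, zt = algebraMap M N z - algebraMap L N y -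
      algebraMap K N e * algebraMap K₁ N (z₁) := ⟨_, rfl⟩
  haveI : CharP N p := charP_of_injective_algebraMap (algebraMap K N).injective p
  have hzt' : zt ^ p - zt = algebraMap L N (algebraMap B L b) := by
    have h1 : algebraMap M N z ^ p - algebraMap M N z = algebraMap L N ξ := by
      rw [← map_pow, ← map_sub, hz]
      rfl
    have h2 : (algebraMap K N e * algebraMap K₁ N (z₁)) ^ p -
        algebraMap K N e * algebraMap K₁ N (z₁) =
        algebraMap L N (algebraMap K L (e * a')) := by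
      rw [mul_pow, ← map_pow, he, ← mul_sub, ← map_pow, ← map_sub, hz₁,
        ← IsScalarTower.algebraMap_apply K K₁ N, ← map_mul,
        ← IsScalarTower.algebraMap_apply K L N]
    have h3 : algebraMap L N y ^ p - algebraMap L N y = algebraMap L N (y ^ p - y) := by
      rw [map_sub, map_pow]
    rw [hzt, wp_sub hp, wp_sub hp, h1, h2, h3, ← map_sub, ← map_sub, hξ]
    congr 1
    ring
  have hgen' : Algebra.adjoin L (insert zt (Set.range (algebraMap K₁ N))) = ⊤ := by
    rw [eq_top_iff]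
    intro x _
    have hx : x ∈ Algebra.adjoin M (Set.range (algebraMap K₁ N)) := by rw [hgen]; trivial
    have hzN : algebraMap M N z ∈ Algebra.adjoin L (insert zt (Set.range (algebraMap K₁ N))) := by
      have h1 : algebraMap M N z = zt + algebraMap L N y +
          algebraMap L N (algebraMap K L e) * algebraMap K₁ N (z₁) := by
        rw [hzt, ← IsScalarTower.algebraMap_apply K L N]; ring
      rw [h1]
      refine add_mem (add_mem (Algebra.subset_adjoin (Set.mem_insert _ _))
        (Subalgebra.algebraMap_mem _ _)) (mul_mem (Subalgebra.algebraMap_mem _ _)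
        (Algebra.subset_adjoin (Set.mem_insert_of_mem _ ⟨_, rfl⟩)))
    have hM : ∀ m : M, algebraMap M N m ∈
        Algebra.adjoin L (insert zt (Set.range (algebraMap K₁ N))) := by
      intro m
      have hm : m ∈ Algebra.adjoin L {z} := by rw [hzgen]; trivial
      induction hm using Algebra.adjoin_induction with
      | mem w hw =>
        rw [Set.mem_singleton_iff] at hw
        rw [hw]
        exact hzN
      | algebraMap l =>
        have : algebraMap M N (algebraMap L M l) = algebraMap L N l := rfl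
        rw [this]
        exact Subalgebra.algebraMap_mem _ _
      | add w w' _ _ hw hw' => rw [map_add]; exact add_mem hw hw'
      | mul w w' _ _ hw hw' => rw [map_mul]; exact mul_mem hw hw'
    induction hx using Algebra.adjoin_induction with
    | mem w hw => exact Algebra.subset_adjoin (Set.mem_insert_of_mem _ hw)
    | algebraMap m => exact hM m
    | add w w' _ _ hw hw' => exact add_mem (hw trivial) (hw' trivial)
    | mul w w' _ _ hw hw' => exact mul_mem (hw trivial) (hw' trivial)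
  exact wu_of_unramified_layer A B K L K₁ hp hAB hw ht' W hWB zt b hzt' hgen'

set_option maxHeartbeats 4000000 in
set_option synthInstance.maxHeartbeats 200000 in
/-- the case where some digit has finite depth. -/
theorem caseJ (hp : p.Prime) [CharP K p] (hAB : Function.Injective (algebraMap A B))
    (hw : EtRam.IsWeaklyUnramified A B) {π : A} (hπ : Irreducible π) (hk : ResHyp p A B)
    (ξ : L) (z : M) (hz : z ^ p - z = algebraMap L M ξ) (hdeg : Module.finrank L M = p)
    (n : ℕ) (y : L) (b : B) (t : ℕ → B) (d : ℕ → ℕ) (a : ℕ → A)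
    (hexp : ξ - (y ^ p - y) = ∑ i ∈ Finset.range n,
      (algebraMap B L (t (i + 1)) ^ (p ^ d (i + 1)) + algebraMap A L (a (i + 1))) /
        algebraMap A L π ^ (i + 1) + algebraMap B L b)
    (ht : ∀ i, t i = 0 ∨ ((∀ r : B, residue B (t i) ≠ residue B r ^ p) ∧ (p ∣ i → d i = 0)))
    (ha : ∀ i, a i = 0 ∨ (IsUnit (a i) ∧ ¬ p ∣ i))
    (hJ : ∃ i, i < n ∧ t (i + 1) ≠ 0) :
    ∃ (K₁ : Type u) (_ : Field K₁) (_ : Algebra K K₁), FiniteDimensional K K₁ ∧
      Algebra.IsSeparable K K₁ ∧
      EtRam.IsTotallyRamified A ((algebraMap K K₁).comp (algebraMap A K)) ∧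
      EtRam.IsWeakSolution C K M K₁ := by
  classical
  haveI : Fact p.Prime := ⟨hp⟩
  haveI hLp : CharP L p := charP_of_injective_algebraMap (algebraMap K L).injective p
  haveI hAp : CharP A p := RingHom.charP (algebraMap A K) (IsFractionRing.injective A K) p
  haveI hkAp : CharP (ResidueField A) p := CharP.of_ringHom_of_ne_zero (residue A) p hp.ne_zero
  haveI hBp : CharP B p := RingHom.charP (algebraMap B L) (IsFractionRing.injective B L) p
  haveI hkBp : CharP (ResidueField B) p := CharP.of_ringHom_of_ne_zero (residue B) p hp.ne_zero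
  haveI hfdLM : FiniteDimensional L M :=
    Module.finite_of_finrank_pos (by rw [hdeg]; exact hp.pos)
  have hw' : (maximalIdeal A).map (algebraMap A B) = maximalIdeal B := hw
  have hπ' : Irreducible (algebraMap A B π) := by
    rw [IsDiscreteValuationRing.irreducible_iff_uniformizer, ← hw', hπ.maximalIdeal_eq,
      Ideal.map_span, Set.image_singleton]
  -- the residue field of `A` is perfect
  have hperf : ∀ x : ResidueField A, ∃ w : ResidueField A, w ^ p = x := by
    intro x
    obtain ⟨w, ⟨w₀, rfl⟩, hw₀⟩ := range_pth hp hk (x := algebraMap _ (ResidueField B) x) ⟨x, rfl⟩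
    refine ⟨w₀, ?_⟩
    apply (algebraMap (ResidueField A) (ResidueField B)).injective
    rw [map_pow, hw₀]
  -- parameters
  obtain ⟨D, hD⟩ : ∃ D : ℕ, D = ∑ i ∈ Finset.range n, d (i + 1) := ⟨_, rfl⟩
  have hdD : ∀ i, i < n → d (i + 1) ≤ D := by
    intro i hi
    rw [hD]
    exact Finset.single_le_sum (f := fun i => d (i + 1)) (fun _ _ => Nat.zero_le _)
      (Finset.mem_range.mpr hi)
  obtain ⟨N₀, hN₀⟩ : ∃ N₀ : ℕ, N₀ = D + n + 1 := ⟨_, rfl⟩
  obtain ⟨K₁, fK₁, algKK₁, algAK₁, towAKK₁, hfr, hsep, htot, πB, b₁, b', hπB, hb₁, hb', h1, h2⟩ :=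
    Groth.Agent.S7157.result p hp A K π hπ.maximalIdeal_eq (n + 1 + 1) (by omega) N₀
  haveI hfdKK₁ : FiniteDimensional K K₁ :=
    Module.finite_of_finrank_pos (by rw [hfr]; exact pow_pos hp.pos _)
  have ht' : EtRam.IsTotallyRamified A ((algebraMap K K₁).comp (algebraMap A K)) := by
    rw [← IsScalarTower.algebraMap_eq A K K₁]
    exact htot
  -- the `A`-part of the expansion
  obtain ⟨aK, haK⟩ : ∃ aK : K, aK = ∑ i ∈ Finset.range n,
      algebraMap A K (a (i + 1)) / algebraMap A K π ^ (i + 1) := ⟨_, rfl⟩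
  obtain ⟨⟨x, hx⟩, -⟩ := polar_unit (K := K) hπ a ha n
  rw [← haK] at hx
  obtain ⟨c, a₀, hc⟩ := digits_pow (K := K) hperf hπ N₀ n aK ⟨x, hx⟩
  have haKL : algebraMap K L aK = ∑ i ∈ Finset.range n,
      algebraMap A L (a (i + 1)) / algebraMap A L π ^ (i + 1) := by
    rw [haK, map_sum]
    refine Finset.sum_congr rfl (fun i _ => ?_)
    rw [map_div₀, map_pow, ← IsScalarTower.algebraMap_apply A K L,
      ← IsScalarTower.algebraMap_apply A K L]
  have hcL : algebraMap K L aK = ∑ i ∈ Finset.range n,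
      algebraMap A L (c (i + 1)) ^ (p ^ N₀) / algebraMap A L π ^ (i + 1) + algebraMap A L a₀ := by
    rw [hc, map_add, map_sum, ← IsScalarTower.algebraMap_apply A K L]
    congr 1
    refine Finset.sum_congr rfl (fun i _ => ?_)
    rw [map_div₀, map_pow, map_pow, ← IsScalarTower.algebraMap_apply A K L,
      ← IsScalarTower.algebraMap_apply A K L]
  obtain ⟨d', hd'⟩ : ∃ d' : ℕ → ℕ, d' = fun i => min (d i) N₀ := ⟨_, rfl⟩
  have hd'le : ∀ i, d' i ≤ N₀ := fun i => by rw [hd']; exact min_le_right _ _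
  have hd'eq : ∀ i, i < n → d' (i + 1) = d (i + 1) := by
    intro i hi
    rw [hd']
    exact min_eq_left (le_trans (hdD i hi) (by omega))
  have hexp' : ξ - (y ^ p - y) =
      ∑ i ∈ Finset.range n, algebraMap B L (t (i + 1)) ^ (p ^ d' (i + 1)) /
        algebraMap A L π ^ (i + 1) +
      ∑ i ∈ Finset.range n, algebraMap A L (c (i + 1)) ^ (p ^ N₀) / algebraMap A L π ^ (i + 1) +
      algebraMap A L a₀ + algebraMap B L b := by
    rw [hexp, add_assoc (∑ i ∈ Finset.range n, _), ← hcL, haKL, ← Finset.sum_add_distrib]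
    congr 1
    refine Finset.sum_congr rfl (fun i hi => ?_)
    rw [hd'eq i (Finset.mem_range.mp hi), add_div]
  -- the dominant index
  obtain ⟨J, hJdef⟩ : ∃ J : Finset ℕ, J = (Finset.range n).filter (fun i => t (i + 1) ≠ 0) :=
    ⟨_, rfl⟩
  have hJne : J.Nonempty := by
    obtain ⟨i, hi, hti⟩ := hJ
    exact ⟨i, by rw [hJdef, Finset.mem_filter, Finset.mem_range]; exact ⟨hi, hti⟩⟩
  obtain ⟨i₀, hi₀J, hmax⟩ := Finset.exists_max_image J
    (fun i => (i + 1) * p ^ (N₀ - d' (i + 1))) hJne
  rw [hJdef, Finset.mem_filter, Finset.mem_range] at hi₀J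
  obtain ⟨hi₀, hti₀⟩ := hi₀J
  have hti₀' := (ht (i₀ + 1)).resolve_left hti₀
  obtain ⟨l, hl⟩ : ∃ l : ℕ, l = (i₀ + 1) * p ^ (N₀ - d' (i₀ + 1)) := ⟨_, rfl⟩
  have hother : ∀ i, i < n → i ≠ i₀ → t (i + 1) = 0 ∨ (i + 1) * p ^ (N₀ - d' (i + 1)) < l := by
    intro i hi hne
    by_cases hti : t (i + 1) = 0
    · exact Or.inl hti
    · right
      have hiJ : i ∈ J := by
        rw [hJdef, Finset.mem_filter, Finset.mem_range]; exact ⟨hi, hti⟩
      have hle := hmax i hiJ
      rw [hl]
      refine lt_of_le_of_ne hle (fun heq => hne ?_)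
      have hti' := (ht (i + 1)).resolve_left hti
      have := weight_inj hp (hd'le (i + 1)) (hd'le (i₀ + 1))
        (fun h => by rw [hd'eq i hi]; exact hti'.2 h)
        (fun h => by rw [hd'eq i₀ hi₀]; exact hti₀'.2 h) heq
      omega
  have hexpo : n + 1 ≤ N₀ - d' (i₀ + 1) := by
    rw [hd'eq i₀ hi₀]
    have := hdD i₀ hi₀
    omega
  obtain ⟨e', he'⟩ := Nat.exists_eq_add_of_le hexpo
  obtain ⟨k, hk'⟩ : ∃ k : ℕ, k = (i₀ + 1) * p ^ (n + e') := ⟨_, rfl⟩
  have hlk : l = p * k := by
    rw [hl, hk', he']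
    ring
  have hkpos : 0 < k := by
    rw [hk']
    exact Nat.mul_pos (Nat.succ_pos _) (pow_pos hp.pos _)
  have hln : n < l := by
    rw [hl, he']
    have h2n : n < 2 ^ n := Nat.lt_two_pow_self
    have h3 : 2 ^ n ≤ p ^ n := Nat.pow_le_pow_left hp.two_le n
    have h4 : p ^ n ≤ p ^ (n + 1 + e') := Nat.pow_le_pow_right hp.pos (by omega)
    have h5 : p ^ (n + 1 + e') ≤ (i₀ + 1) * p ^ (n + 1 + e') := Nat.le_mul_of_pos_left _ (Nat.succ_pos _)
    omega
  refine ⟨K₁, fK₁, algKK₁, hfdKK₁, hsep, ht', ?_⟩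
  intro N _ _ _ _ _ _ hgen W hW
  letI algLN : Algebra L N := ((algebraMap M N).comp (algebraMap L M)).toAlgebra
  haveI towLMN : IsScalarTower L M N := IsScalarTower.of_algebraMap_eq (fun _ => rfl)
  haveI towKLN : IsScalarTower K L N := IsScalarTower.of_algebraMap_eq (fun x => by
    show algebraMap K N x = algebraMap M N (algebraMap L M (algebraMap K L x))
    rw [← IsScalarTower.algebraMap_apply K L M, ← IsScalarTower.algebraMap_apply K M N])
  letI algBN : Algebra B N := ((algebraMap L N).comp (algebraMap B L)).toAlgebra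
  haveI towBLN : IsScalarTower B L N := IsScalarTower.of_algebraMap_eq (fun _ => rfl)
  letI algAN : Algebra A N := ((algebraMap L N).comp (algebraMap A L)).toAlgebra
  haveI towALN : IsScalarTower A L N := IsScalarTower.of_algebraMap_eq (fun _ => rfl)
  haveI towAK₁N : IsScalarTower A K₁ N := IsScalarTower.of_algebraMap_eq (fun x => by
    show algebraMap L N (algebraMap A L x) = algebraMap K₁ N (algebraMap A K₁ x)
    rw [IsScalarTower.algebraMap_apply A K K₁, ← IsScalarTower.algebraMap_apply K K₁ N,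
      IsScalarTower.algebraMap_apply K L N, ← IsScalarTower.algebraMap_apply A K L])
  have hWB : EtRam.Dominates B (algebraMap B N) W := dominates_B B C K L M W hW
  obtain ⟨hfdMN, hleMN⟩ := finrank_composite_le K M K₁ N hgen
  haveI := hfdMN
  haveI hfdLN : FiniteDimensional L N := Module.Finite.trans M N
  have hdegN : Module.finrank L N ≤ p ^ N₀ * p := by
    rw [← Module.finrank_mul_finrank L M N, hdeg, mul_comm]
    exact Nat.mul_le_mul_right p (hfr ▸ hleMN)
  have hAW : ∀ x : A, algebraMap A N x ∈ W := by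
    intro x
    have : algebraMap A N x = algebraMap B N (algebraMap A B x) := by
      show algebraMap L N (algebraMap A L x) = algebraMap L N (algebraMap B L (algebraMap A B x))
      rw [← IsScalarTower.algebraMap_apply A B L]
    rw [this]
    exact hWB.1 _
  -- the elements
  obtain ⟨θ, hθ⟩ : ∃ θ : N, θ = algebraMap K₁ N πB := ⟨_, rfl⟩
  obtain ⟨β₁, hβ₁⟩ : ∃ x : N, x = algebraMap K₁ N b₁ := ⟨_, rfl⟩
  obtain ⟨β', hβ'⟩ : ∃ x : N, x = algebraMap K₁ N b' := ⟨_, rfl⟩
  obtain ⟨ϖ, hϖ⟩ : ∃ x : N, x = algebraMap A N π := ⟨_, rfl⟩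
  have hθW : θ ∈ W := by
    rw [hθ]
    exact Groth.Agent.Lib.Helper9.DVRExt.mem_of_isIntegral W hAW
      (IsIntegral.map (IsScalarTower.toAlgHom A K₁ N) hπB)
  have hβ₁W : β₁ ∈ W := by
    rw [hβ₁]
    exact Groth.Agent.Lib.Helper9.DVRExt.mem_of_isIntegral W hAW
      (IsIntegral.map (IsScalarTower.toAlgHom A K₁ N) hb₁)
  have hβ'W : β' ∈ W := by
    rw [hβ']
    exact Groth.Agent.Lib.Helper9.DVRExt.mem_of_isIntegral W hAW
      (IsIntegral.map (IsScalarTower.toAlgHom A K₁ N) hb')
  have R1 : θ ^ (p ^ N₀) = ϖ + ϖ ^ (n + 1 + 1) * β₁ := by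
    have := congrArg (algebraMap K₁ N) h1
    rw [map_pow, map_add, map_mul, map_pow, ← IsScalarTower.algebraMap_apply A K₁ N] at this
    rw [hθ, hϖ, hβ₁]
    exact this
  have R2 : θ ^ (p ^ N₀) = ϖ + θ ^ ((n + 1 + 1) * p ^ N₀) * β' := by
    have := congrArg (algebraMap K₁ N) h2
    rw [map_pow, map_add, map_mul, map_pow, ← IsScalarTower.algebraMap_apply A K₁ N] at this
    rw [hθ, hϖ, hβ']
    exact this
  have hϖlt : W.valuation ϖ < 1 := by
    have : ϖ = algebraMap B N (algebraMap A B π) := by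
      rw [hϖ]
      show algebraMap L N (algebraMap A L π) = algebraMap L N (algebraMap B L (algebraMap A B π))
      rw [← IsScalarTower.algebraMap_apply A B L]
    rw [this]
    exact hWB.2 _ ((mem_maximalIdeal _).mpr hπ'.not_isUnit)
  have hθlt : W.valuation θ < 1 := by
    apply Groth.Agent.Lib.Helper9.AbhyankarCore.valuation_lt_one_of_pow W (pow_pos hp.pos N₀).ne'
    have e1 : θ ^ (p ^ N₀) = ϖ * (1 + ϖ ^ (n + 1) * β₁) := by rw [R1]; ring
    rw [e1, map_mul]
    calc W.valuation ϖ * W.valuation (1 + ϖ ^ (n + 1) * β₁) ≤ W.valuation ϖ * 1 := by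
          gcongr
          rw [W.valuation_le_one_iff]
          exact add_mem W.one_mem (W.mul_mem _ _ (pow_mem
            ((W.valuation_le_one_iff _).mp hϖlt.le) _) hβ₁W)
      _ < 1 := by rw [mul_one]; exact hϖlt
  have hrel : algebraMap A N π = θ ^ (p ^ N₀) * (1 - θ ^ ((n + 1) * p ^ N₀) * β') := by
    rw [← hϖ]
    have e2 : θ ^ ((n + 1 + 1) * p ^ N₀) = θ ^ (p ^ N₀) * θ ^ ((n + 1) * p ^ N₀) := by
      rw [← pow_add]; congr 1; ring
    rw [e2] at R2
    linear_combination (-1 : N) * R2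
  have hzN : algebraMap M N z ^ p - algebraMap M N z = algebraMap L N ξ := by
    rw [← map_pow, ← map_sub, hz]
    rfl
  have hfinal := local_J A B L hp W hWB hπ' N₀ (n + 1) n (Nat.le_succ n) (Nat.succ_pos n) hdegN θ β'
    hθW hθlt hβ'W hrel t d' c b a₀ ξ y hexp' hd'le i₀ hi₀ hti₀'.1 l k hl hlk hkpos hln hother
    (algebraMap M N z) hzN
  rw [hθ] at hfinal hθW hθlt
  exact wu_of_uniformizer (algebraMap K₁ N) W πB hθW hθlt hfinal

end Main

end Groth.Agent.Lib.Helper9.ASWeak
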